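import Cfsg.Agent.Lib.SuzukiElementary.Triangle

/-!
The elementary abelian group over the one in the unitary quotient.
-/

set_option autoImplicit false
set_option maxRecDepth 8000
set_option synthInstance.maxSize 4096

namespace Cfsg.Agent.SuzukiElementary

open Subgroup Cfsg.Agent.SuzukiThree Cfsg.Agent.SuzukiType

variable {G : Type*} [Group G] [Finite G] {Q Q' : Subgroup G} {z a y : G}

/-- The centralizer of an element. -/
abbrev Cy {H : Type*} [Group H] (g : H) : Subgroup H := centralizer ({g} : Set H)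

/-- The quotient with its parabolic subgroup, adapted to the three rotations. -/
structure Setup (D : Su Q Q' z a y) (X : Type*) [Group X] where
  T : Quot y X
  P : Parts D
  b : G
  c : G
  b_mem : b ∈ tri D P
  c_mem : c ∈ tri D P
  span : (zpowers b = zpowers P.a2 ∧ zpowers c = zpowers P.a3) ∨
    (zpowers b = zpowers P.a3 ∧ zpowers c = zpowers P.a2)
  Ab : Subgroup X
  par : Parabolic (T.φ D.zw) (T.φ ⟨b, (Tri.le_cc P b_mem).2⟩) (T.φ ⟨c, (Tri.le_cc P c_mem).2⟩) Ab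
  inv_conj : ∀ u v : X, orderOf u = 2 → orderOf v = 2 → IsConj u v

namespace Setup

variable {D : Su Q Q' z a y} {X : Type*} [Group X] (S : Setup D X)

/-- A generator in the centralizer. -/
def bw : (Cy y) := ⟨S.b, (Tri.le_cc S.P S.b_mem).2⟩

/-- The other generator in the centralizer. -/
def cw : (Cy y) := ⟨S.c, (Tri.le_cc S.P S.c_mem).2⟩

/-- The element in the centralizer. -/
def yw (_ : Setup D X) : (Cy y) := ⟨y, mem_centralizer_singleton_iff.2 rfl⟩

/-- The conjugates of `⟨y⟩`. -/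
def IsY (L : Subgroup G) : Prop := ∃ g : G, L = zpowers (g * y * g⁻¹)

omit [Finite G] in
theorem isY_conj {x : G} (h : IsY (y := y) (zpowers x)) (g : G) : IsY (y := y) (zpowers (g * x * g⁻¹)) := by
  obtain ⟨u, hu⟩ := h
  refine ⟨g * u, ?_⟩
  have h1 := congrArg (Subgroup.map (MulAut.conj g).toMonoidHom) hu
  rw [MonoidHom.map_zpowers, MonoidHom.map_zpowers] at h1
  refine h1.trans ?_
  congr 1
  show g * (u * y * u⁻¹) * g⁻¹ = _
  group

include S

theorem y_cube : y ^ 3 = 1 := D.y3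

theorem phi_y : S.T.φ S.yw = 1 := (S.T.ker _).2 (mem_zpowers y)

theorem mem_tri_of_phi {x w : (Cy y)} (hw : (w : G) ∈ tri D S.P) (h : S.T.φ x = S.T.φ w) :
    (x : G) ∈ tri D S.P := by
  have h1 := (S.T.ker (x * w⁻¹)).1 (by rw [map_mul, map_inv, h, mul_inv_cancel])
  have h2 : ((x * w⁻¹ : (Cy y)) : G) ∈ tri D S.P := zpowers_le.2 (Tri.mem_gens S.P).1 h1
  simpa using mul_mem h2 hw

theorem mem_tri_of_root {x : (Cy y)} (h : S.T.φ x ∈ zpowers (S.T.φ S.bw) ∨ S.T.φ x ∈ zpowers (S.T.φ S.cw)) :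
    (x : G) ∈ tri D S.P := by
  rcases h with ⟨i, hi⟩ | ⟨i, hi⟩
  · exact S.mem_tri_of_phi (w := S.bw ^ i) (zpow_mem S.b_mem i) (by rw [map_zpow]; exact hi.symm)
  · exact S.mem_tri_of_phi (w := S.cw ^ i) (zpow_mem S.c_mem i) (by rw [map_zpow]; exact hi.symm)

theorem orders : orderOf y = 3 ∧ orderOf S.b = 3 ∧ orderOf S.c = 3 := by
  have h2 : orderOf S.P.a2 = 3 := orderOf_eq_prime S.P.a2p (Tri.a2_ne S.P).1
  have h3 : orderOf S.P.a3 = 3 := orderOf_eq_prime S.P.a3p (Tri.a2_ne S.P).2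
  refine ⟨orderOf_eq_prime D.y3 D.y_ne, ?_⟩
  rw [← Nat.card_zpowers S.b, ← Nat.card_zpowers S.c]
  rcases S.span with ⟨e, e'⟩ | ⟨e, e'⟩ <;>
    exact ⟨by rw [e, Nat.card_zpowers]; assumption, by rw [e', Nat.card_zpowers]; assumption⟩

theorem inv_y : ∃ k, k * z = z * k ∧ k * y * k⁻¹ = y⁻¹ := by
  obtain ⟨k, h1, -, -, h4⟩ := D.exists_inv
  exact ⟨k, h1, h4⟩

/-- A conjugate of `y` commuting with `z` is conjugate in `C(z)`. -/
theorem exists_cz {g : G} (h : g * y * g⁻¹ * z = z * (g * y * g⁻¹)) :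
    ∃ c0, c0 * z = z * c0 ∧ c0 * y * c0⁻¹ = g * y * g⁻¹ := by
  have hu : g⁻¹ * z * g * y = y * (g⁻¹ * z * g) := by
    calc g⁻¹ * z * g * y = g⁻¹ * (z * (g * y * g⁻¹)) * g := by group
      _ = _ := by rw [← h]; group
  let u : (Cy y) := ⟨g⁻¹ * z * g, mem_centralizer_singleton_iff.2 hu⟩
  have hz4 : ∀ v : G, (v * z * v⁻¹) ^ 4 = 1 := fun v => by
    rw [conj_pow, D.q_pow_four D.h.z_mem, mul_one, mul_inv_cancel]
  have hu4 : (u : G) ^ 4 = 1 := by simpa [u] using hz4 g⁻¹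
  have hu2 : orderOf (S.T.φ u) = 2 := by
    refine orderOf_eq_prime ?_ fun e => ?_
    · rw [← map_pow, show u ^ 2 = 1 from Subtype.ext (by
        show (g⁻¹ * z * g) ^ 2 = 1
        rw [pow_two, show g⁻¹ * z * g * (g⁻¹ * z * g) = g⁻¹ * (z * z) * g by group, D.h.zz]; group), map_one]
    · rw [← map_one S.T.φ] at e
      have h1 : g⁻¹ * z * g = 1 := congrArg Subtype.val (D.quot_inj S.T hu4 (one_pow 4) e)
      exact D.h.ne_one (by simpa [mul_assoc] using congrArg (fun w => g * w * g⁻¹) h1)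
  obtain ⟨v, hv⟩ := isConj_iff.1 (S.inv_conj _ _ (D.zb_two S.T) hu2)
  obtain ⟨h0, rfl⟩ := S.T.surj v
  have he : (h0 : G) * z * (h0 : G)⁻¹ = g⁻¹ * z * g := D.lift_eq S.T hu4 hv
  have hy : (h0 : G) * y * (h0 : G)⁻¹ = y := by
    rw [mem_centralizer_singleton_iff.1 h0.2, mul_inv_cancel_right]
  refine ⟨g * h0, mul_inv_eq_iff_eq_mul.1 ?_, ?_⟩
  · calc g * h0 * z * (g * (h0 : G))⁻¹ = g * ((h0 : G) * z * (h0 : G)⁻¹) * g⁻¹ := by group
      _ = z := by rw [he]; group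
  · calc g * h0 * y * (g * (h0 : G))⁻¹ = g * ((h0 : G) * y * (h0 : G)⁻¹) * g⁻¹ := by group
      _ = _ := by rw [hy]

/-- The conjugates of `⟨y⟩` in the triangle. -/
theorem isY_cases {x : G} (h : IsY (y := y) (zpowers x)) (hx : x ∈ tri D S.P) :
    zpowers x = zpowers y ∨ zpowers x = zpowers S.b ∨ zpowers x = zpowers S.c := by
  obtain ⟨g, hg⟩ := h
  have hgx : g * y * g⁻¹ ∈ zpowers x := hg ▸ mem_zpowers _
  have htri : g * y * g⁻¹ ∈ tri D S.P := zpowers_le.2 hx hgx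
  obtain ⟨c0, hc0, e⟩ := S.exists_cz (mem_cc.1 (Tri.le_cc S.P htri)).1
  have hcase := Tri.conj_cases S.P hc0 (e.symm ▸ htri)
  rw [e] at hcase
  have ho : orderOf (g * y * g⁻¹) = 3 := by
    rw [← S.orders.1]
    exact (MulEquiv.orderOf_eq (MulAut.conj g) y)
  have key : ∀ u : G, orderOf u = 3 → g * y * g⁻¹ ∈ zpowers u → zpowers x = zpowers u := fun u hu hm => by
    rw [hg]
    refine eq_of_le_of_card_ge (zpowers_le.2 hm) ?_
    rw [Nat.card_zpowers, Nat.card_zpowers, ho, hu]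
  have h2 : orderOf S.P.a2 = 3 := orderOf_eq_prime S.P.a2p (Tri.a2_ne S.P).1
  have h3 : orderOf S.P.a3 = 3 := orderOf_eq_prime S.P.a3p (Tri.a2_ne S.P).2
  rcases hcase with hc | hc | hc
  · exact Or.inl (key _ S.orders.1 hc)
  all_goals
    rcases S.span with ⟨e1, e2⟩ | ⟨e1, e2⟩
  · exact Or.inr (Or.inl ((key _ h2 hc).trans e1.symm))
  · exact Or.inr (Or.inr ((key _ h2 hc).trans e2.symm))
  · exact Or.inr (Or.inr ((key _ h3 hc).trans e2.symm))
  · exact Or.inr (Or.inl ((key _ h3 hc).trans e1.symm))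

theorem phi_zpowers {x w : (Cy y)} (h : zpowers (x : G) = zpowers (w : G)) : S.T.φ x ∈ zpowers (S.T.φ w) := by
  obtain ⟨i, hi⟩ := (h ▸ mem_zpowers (x : G) : (x : G) ∈ zpowers (w : G))
  exact ⟨i, (map_zpow S.T.φ w i).symm.trans (congrArg _ (Subtype.ext (by simpa using hi)))⟩

theorem t_not_mem : S.T.φ S.bw ∉ zpowers (S.T.φ S.cw) := fun h => by
  have hb := S.par.ord_t
  haveI : Finite X := Finite.of_surjective _ S.T.surj
  refine S.par.tp_ne ?_
  have e : zpowers (S.T.φ S.bw) = zpowers (S.T.φ S.cw) :=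
    eq_of_le_of_card_ge (zpowers_le.2 h) (by
      rw [Nat.card_zpowers, Nat.card_zpowers]; exact le_of_eq (hb.2.trans hb.1.symm))
  show S.T.φ S.cw ∈ zpowers (S.T.φ S.bw)
  rw [e]
  exact mem_zpowers _

/-- A conjugate of `y` over the first root subgroup is a power of the first generator. -/
theorem over_t {x : (Cy y)} (h : IsY (y := y) (zpowers (x : G))) (hx : S.T.φ x ∈ zpowers (S.T.φ S.bw))
    (hne : S.T.φ x ≠ 1) : zpowers (x : G) = zpowers S.b := by
  rcases S.isY_cases h (S.mem_tri_of_root (Or.inl hx)) with e | e | e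
  · refine absurd ?_ hne
    have h1 := S.phi_zpowers (x := x) (w := S.yw) e
    rwa [S.phi_y, zpowers_one_eq_bot, mem_bot] at h1
  · exact e
  · refine absurd ?_ hne
    have h1 := S.phi_zpowers (x := x) (w := S.cw) e
    rcases zpow_cases (S.par.cube _ S.par.t_mem) hx with h2 | h2 | h2
    · exact h2
    · exact absurd (h2 ▸ h1) S.t_not_mem
    · exact absurd ((Subgroup.inv_mem_iff _).1 (h2 ▸ h1)) S.t_not_mem

/-- The same for the second. -/
theorem over_p {x : (Cy y)} (h : IsY (y := y) (zpowers (x : G))) (hx : S.T.φ x ∈ zpowers (S.T.φ S.cw))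
    (hne : S.T.φ x ≠ 1) : zpowers (x : G) = zpowers S.c := by
  rcases S.isY_cases h (S.mem_tri_of_root (Or.inr hx)) with e | e | e
  · refine absurd ?_ hne
    have h1 := S.phi_zpowers (x := x) (w := S.yw) e
    rwa [S.phi_y, zpowers_one_eq_bot, mem_bot] at h1
  · refine absurd ?_ hne
    have h1 := S.phi_zpowers (x := x) (w := S.bw) e
    rcases zpow_cases (S.par.cube _ S.par.p_mem) hx with h2 | h2 | h2
    · exact h2
    · exact absurd (h2 ▸ h1) S.par.tp_ne
    · exact absurd ((Subgroup.inv_mem_iff _).1 (h2 ▸ h1)) S.par.tp_ne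
  · exact e

/-- The two generators are conjugate to powers of `y`, and to each other in `C(y)`. -/
theorem exists_g0 : IsY (y := y) (zpowers S.b) ∧ IsY (y := y) (zpowers S.c) ∧
    ∃ g0 : (Cy y), S.T.φ g0 ∈ normalizer (S.Ab : Set X) ∧ zpowers ((g0 : G) * S.b * (g0 : G)⁻¹) = zpowers S.c := by
  obtain ⟨n, hn, he⟩ := S.par.p_root
  obtain ⟨g0, rfl⟩ := S.T.surj n
  obtain ⟨cm, -, hcm⟩ := exists_move D S.P
  have h2 : IsY (y := y) (zpowers S.P.a2) := ⟨cm, by rw [hcm]⟩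
  have himg : S.T.φ (g0 * S.bw * g0⁻¹) = S.T.φ S.cw := by
    rw [map_mul, map_mul, map_inv]; exact he
  have hb : IsY (y := y) (zpowers S.b) := by
    rcases S.span with ⟨e, -⟩ | ⟨-, e⟩
    · rw [e]; exact h2
    · have hi : S.T.φ (g0⁻¹ * S.cw * g0) = S.T.φ S.bw := by
        rw [map_mul, map_mul, map_inv, ← himg, map_mul, map_mul, map_inv]; group
      have h' := isY_conj (e.symm ▸ h2 : IsY (y := y) (zpowers S.c)) (g0 : G)⁻¹
      rw [inv_inv] at h'
      have := S.over_t (x := g0⁻¹ * S.cw * g0) h' (by rw [hi]; exact mem_zpowers _)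
        (by rw [hi]; exact S.par.t_ne)
      rw [← this]
      exact h'
  have hc0 := S.over_p (x := g0 * S.bw * g0⁻¹) (isY_conj hb (g0 : G)) (by rw [himg]; exact mem_zpowers _)
    (by rw [himg]; exact S.par.p_ne)
  exact ⟨hb, hc0 ▸ isY_conj hb (g0 : G), g0, hn, hc0⟩

/-- The elementary abelian group. -/
def A : Subgroup G := (S.Ab.comap S.T.φ).map (Subgroup.subtype (Cy y))

theorem mem_A {x : (Cy y)} : (x : G) ∈ S.A ↔ S.T.φ x ∈ S.Ab :=
  (mem_map_iff_mem (Subgroup.subtype_injective _)).trans mem_comap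

theorem A_le : S.A ≤ (Cy y) := map_subtype_le _

theorem card_comap (H : Subgroup X) [Finite X] : Nat.card (H.comap S.T.φ) = 3 * Nat.card H := by
  have hi := H.index_comap_of_surjective (f := S.T.φ) S.T.surj
  have h1 := (H.comap S.T.φ).card_mul_index
  have h2 := H.card_mul_index
  have h3 := Subgroup.card_mul_index S.T.φ.ker
  have hk : Nat.card S.T.φ.ker = 3 := by
    rw [← S.orders.1, ← Nat.card_zpowers]
    refine Nat.card_congr (Equiv.ofBijective (fun x : S.T.φ.ker => (⟨((x : (Cy y)) : G), (S.T.ker _).1 x.2⟩ :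
      zpowers y)) ⟨fun u v e => ?_, fun v => ?_⟩)
    · exact Subtype.ext (Subtype.ext (congrArg (fun w : zpowers y => (w : G)) e))
    · exact ⟨⟨⟨v.1, zpowers_le.2 (mem_centralizer_singleton_iff.2 rfl) v.2⟩, (S.T.ker _).2 v.2⟩, rfl⟩
  rw [Subgroup.index_ker, MonoidHom.range_eq_top.2 S.T.surj, card_top, hk, ← h2, ← mul_assoc] at h3
  rw [hi, ← h3] at h1
  exact Nat.eq_of_mul_eq_mul_right (Nat.pos_of_ne_zero H.index_ne_zero_of_finite) h1

theorem card_A [Finite X] : Nat.card S.A = 243 := by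
  rw [A, card_map_of_injective (Subgroup.subtype_injective _), S.card_comap, S.par.card_A]

theorem normalizer_iff {g : (Cy y)} :
    (g : G) ∈ normalizer (S.A : Set G) ↔ S.T.φ g ∈ normalizer (S.Ab : Set X) := by
  rw [mem_normalizer_iff, mem_normalizer_iff]
  constructor
  · intro h v
    obtain ⟨u, rfl⟩ := S.T.surj v
    rw [← map_inv, ← map_mul, ← map_mul, ← S.mem_A, ← S.mem_A]
    exact h u
  · intro h x
    by_cases hx : x ∈ (Cy y)
    · have := h (S.T.φ ⟨x, hx⟩)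
      rw [← map_inv, ← map_mul, ← map_mul, ← S.mem_A, ← S.mem_A] at this
      exact this
    · refine iff_of_false (fun h' => hx (S.A_le h')) fun h' => hx ?_
      have := mul_mem (mul_mem (inv_mem g.2) (S.A_le h')) g.2
      simpa [mul_assoc] using this

theorem tri_le_A : tri D S.P ≤ S.A := by
  have hy : y ∈ S.A := (S.mem_A (x := S.yw)).2 (by rw [S.phi_y]; exact one_mem _)
  have hb : S.b ∈ S.A := (S.mem_A (x := S.bw)).2 S.par.t_mem
  have hc : S.c ∈ S.A := (S.mem_A (x := S.cw)).2 S.par.p_mem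
  refine (closure_le _).2 ?_
  rintro u (e | e | e) <;> rw [e]
  · exact hy
  all_goals
    rcases S.span with ⟨e1, e2⟩ | ⟨e1, e2⟩
  · exact zpowers_le.2 hb (e1 ▸ mem_zpowers S.P.a2)
  · exact zpowers_le.2 hc (e2 ▸ mem_zpowers S.P.a2)
  · exact zpowers_le.2 hc (e2 ▸ mem_zpowers S.P.a3)
  · exact zpowers_le.2 hb (e1 ▸ mem_zpowers S.P.a3)

theorem tri_le_closure : tri D S.P ≤ closure {y, S.b, S.c} := by
  refine (closure_le _).2 ?_
  rintro u (e | e | e) <;> rw [e]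
  · exact subset_closure (by simp)
  all_goals
    rcases S.span with ⟨e1, e2⟩ | ⟨e1, e2⟩
  · exact zpowers_le.2 (subset_closure (by simp)) (e1 ▸ mem_zpowers S.P.a2 : S.P.a2 ∈ zpowers S.b)
  · exact zpowers_le.2 (subset_closure (by simp)) (e2 ▸ mem_zpowers S.P.a2 : S.P.a2 ∈ zpowers S.c)
  · exact zpowers_le.2 (subset_closure (by simp)) (e2 ▸ mem_zpowers S.P.a3 : S.P.a3 ∈ zpowers S.c)
  · exact zpowers_le.2 (subset_closure (by simp)) (e1 ▸ mem_zpowers S.P.a3 : S.P.a3 ∈ zpowers S.b)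

/-- Two conjugates of the generator commute. -/
theorem roots_comm {g : (Cy y)} (hg : S.T.φ g ∈ normalizer (S.Ab : Set X)) :
    S.b * ((g : G) * S.b * (g : G)⁻¹) = (g : G) * S.b * (g : G)⁻¹ * S.b := by
  have himg : S.T.φ (g * S.bw * g⁻¹) = S.T.φ g * S.T.φ S.bw * (S.T.φ g)⁻¹ := by
    rw [map_mul, map_mul, map_inv]
  by_cases h : S.T.φ g * S.T.φ S.bw * (S.T.φ g)⁻¹ ∈ zpowers (S.T.φ S.bw)
  · exact Tri.comm S.P _ S.b_mem _ (S.mem_tri_of_root (x := g * S.bw * g⁻¹) (Or.inl (himg.symm ▸ h)))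
  · obtain ⟨m, hm, hm1, hm2⟩ := S.par.two_trans _ hg h
    obtain ⟨k, rfl⟩ := S.T.surj m
    have e1 : (k : G) * S.b * (k : G)⁻¹ ∈ tri D S.P :=
      S.mem_tri_of_root (x := k * S.bw * k⁻¹) (Or.inl (by
        rw [map_mul, map_mul, map_inv]
        exact (congrArg (· ∈ zpowers (S.T.φ S.bw)) hm1).mpr (mem_zpowers _)))
    have e2 : (k : G) * ((g : G) * S.b * (g : G)⁻¹) * (k : G)⁻¹ ∈ tri D S.P :=
      S.mem_tri_of_root (x := k * (g * S.bw * g⁻¹) * k⁻¹) (Or.inr (by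
        rw [map_mul S.T.φ (k * _), map_mul S.T.φ k, map_inv, himg]; exact hm2))
    have e := Tri.comm S.P _ e1 _ e2
    calc S.b * ((g : G) * S.b * (g : G)⁻¹)
        = (k : G)⁻¹ * ((k : G) * S.b * (k : G)⁻¹ * ((k : G) * ((g : G) * S.b * (g : G)⁻¹) * (k : G)⁻¹)) * k := by
          group
      _ = (k : G)⁻¹ * ((k : G) * ((g : G) * S.b * (g : G)⁻¹) * (k : G)⁻¹ * ((k : G) * S.b * (k : G)⁻¹)) * k := by
          rw [e]
      _ = _ := by group

theorem A_comm_cube : (∀ u ∈ S.A, ∀ v ∈ S.A, u * v = v * u) ∧ ∀ u ∈ S.A, u ^ 3 = 1 := by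
  obtain ⟨-, -, g0, hg0, hg0e⟩ := S.exists_g0
  set R : Set G := {x | ∃ g : (Cy y), S.T.φ g ∈ normalizer (S.Ab : Set X) ∧ x = (g : G) * S.b * (g : G)⁻¹}
  have hcg : ∀ g : (Cy y), S.T.φ g ∈ normalizer (S.Ab : Set X) → ∀ x ∈ R, (g : G) * x * (g : G)⁻¹ ∈ R := by
    rintro g hg _ ⟨h, hh, rfl⟩
    exact ⟨g * h, by rw [map_mul]; exact mul_mem hg hh, by simp [mul_assoc]⟩
  set Y : Set G := insert y R
  have hcY : ∀ u ∈ Y, ∀ v ∈ Y, u * v = v * u := by
    have hy : ∀ x ∈ R, y * x = x * y := by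
      rintro _ ⟨g, -, rfl⟩
      exact (mem_centralizer_singleton_iff.1 (g * S.bw * g⁻¹).2).symm
    rintro u (rfl | hu) v (rfl | hv)
    · rfl
    · exact hy v hv
    · exact (hy u hu).symm
    · obtain ⟨g, hg, rfl⟩ := hu
      obtain ⟨g', hg', rfl⟩ := hv
      have e := S.roots_comm (g := g⁻¹ * g') (by rw [map_mul, map_inv]; exact mul_mem (inv_mem hg) hg')
      simp only [Subgroup.coe_mul, Subgroup.coe_inv, mul_inv_rev, inv_inv] at e
      calc (g : G) * S.b * (g : G)⁻¹ * ((g' : G) * S.b * (g' : G)⁻¹)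
          = (g : G) * (S.b * ((g : G)⁻¹ * g' * S.b * ((g' : G)⁻¹ * g))) * (g : G)⁻¹ := by group
        _ = _ := by rw [e]; group
  have hY3 : ∀ u ∈ Y, u ^ 3 = 1 := by
    rintro u (rfl | ⟨g, -, rfl⟩)
    · exact D.y3
    · rw [conj_pow, Tri.cube S.P S.b_mem, mul_one, mul_inv_cancel]
  have hle : S.A ≤ closure Y := by
    rintro _ ⟨x, hx, rfl⟩
    obtain ⟨n, hn, hnx⟩ := S.par.diag _ hx
    obtain ⟨g, rfl⟩ := S.T.surj n
    have hcl : closure ({S.T.φ S.bw, S.T.φ S.cw} : Set X) ≤ ((tri D S.P).subgroupOf (Cy y)).map S.T.φ := by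
      refine (closure_le _).2 ?_
      rintro u (e | e) <;> rw [e]
      · exact ⟨S.bw, S.b_mem, rfl⟩
      · exact ⟨S.cw, S.c_mem, rfl⟩
    obtain ⟨w, hw, hwe⟩ := hcl hnx
    have hmem : (g : G) * x * (g : G)⁻¹ ∈ tri D S.P :=
      S.mem_tri_of_phi (x := g * x * g⁻¹) (w := w) hw (by rw [hwe, map_mul, map_mul, map_inv])
    have hR : ∀ u ∈ R, (g : G)⁻¹ * u * g ∈ closure Y := fun u hu => by
      refine subset_closure (Or.inr ?_)
      have := hcg g⁻¹ (by rw [map_inv]; exact inv_mem hn) u hu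
      simpa using this
    have htri : tri D S.P ≤ (closure Y).map (MulAut.conj (g : G)).toMonoidHom := by
      refine S.tri_le_closure.trans ((closure_le _).2 ?_)
      have hm : ∀ u : G, (g : G)⁻¹ * u * g ∈ closure Y → u ∈ (closure Y).map (MulAut.conj (g : G)).toMonoidHom :=
        fun u hu => ⟨_, hu, by simp [mul_assoc]⟩
      rintro u (e | e | e) <;> rw [e]
      · refine hm _ (subset_closure (Or.inl ?_))
        have h := mem_centralizer_singleton_iff.1 g.2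
        rw [mul_assoc, ← h, inv_mul_cancel_left]
      · exact hm _ (hR _ ⟨1, by rw [map_one]; exact one_mem _, by simp⟩)
      · obtain ⟨i, hi⟩ : S.c ∈ zpowers ((g0 : G) * S.b * (g0 : G)⁻¹) := hg0e ▸ mem_zpowers _
        rw [← hi]
        exact zpow_mem (hm _ (hR _ ⟨g0, hg0, rfl⟩)) i
    obtain ⟨v, hv, hve⟩ := htri hmem
    have : v = (x : G) := (MulAut.conj (g : G)).injective (hve.trans rfl)
    show (x : G) ∈ _; rw [← this]; exact hv
  have h1 : closure Y ≤ centralizer Y :=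
    (closure_le _).2 fun x hx => mem_centralizer_iff.2 fun w hw => hcY w hw x hx
  have h2 : closure Y ≤ centralizer (closure Y : Set G) :=
    (closure_le _).2 fun x hx => mem_centralizer_iff.2 fun w hw => (mem_centralizer_iff.1 (h1 hw) x hx).symm
  have hc : ∀ u ∈ closure Y, ∀ v ∈ closure Y, u * v = v * u := fun u hu v hv =>
    (mem_centralizer_iff.1 (h2 hu) v hv).symm
  refine ⟨fun u hu v hv => hc u (hle hu) v (hle hv), fun u hu => ?_⟩
  have key : ∀ u ∈ closure Y, u ^ 3 = 1 := fun u hu => by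
    induction hu using Subgroup.closure_induction with
    | mem v hv => exact hY3 v hv
    | one => exact one_pow 3
    | mul v w hv hw ev ew => rw [(show Commute v w from hc v hv w hw).mul_pow, ev, ew, one_mul]
    | inv v _ ev => rw [inv_pow, ev, inv_one]
  exact key u (hle hu)

theorem centralizer_A : centralizer (S.A : Set G) = S.A := by
  refine le_antisymm (fun x hx => ?_) fun x hx => mem_centralizer_iff.2 fun u hu => S.A_comm_cube.1 u hu x hx
  rw [mem_centralizer_iff] at hx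
  have hxW : x ∈ (Cy y) := mem_centralizer_singleton_iff.2 (hx y (S.tri_le_A (Tri.mem_gens S.P).1)).symm
  rw [show x = ((⟨x, hxW⟩ : (Cy y)) : G) from rfl, S.mem_A, ← S.par.cent]
  refine mem_centralizer_iff.2 fun v hv => ?_
  obtain ⟨u, rfl⟩ := S.T.surj v
  rw [← map_mul, ← map_mul]
  exact congrArg _ (Subtype.ext (hx u (S.mem_A.2 hv)))

/-- The elements of order three commuting with the triangle. -/
theorem mem_A_iff {x : G} : x ∈ S.A ↔ x ^ 3 = 1 ∧ ∀ u ∈ tri D S.P, x * u = u * x := by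
  refine ⟨fun hx => ⟨S.A_comm_cube.2 x hx, fun u hu => S.A_comm_cube.1 x hx u (S.tri_le_A hu)⟩, ?_⟩
  rintro ⟨h3, hc⟩
  have hxW : x ∈ (Cy y) := mem_centralizer_singleton_iff.2 (hc y (Tri.mem_gens S.P).1)
  rw [show x = ((⟨x, hxW⟩ : (Cy y)) : G) from rfl, S.mem_A]
  refine S.par.cent_tp _ (by rw [← map_pow, show (⟨x, hxW⟩ : (Cy y)) ^ 3 = 1 from Subtype.ext h3, map_one]) ?_ ?_
  · rw [← map_mul, ← map_mul]; exact congrArg _ (Subtype.ext (hc _ S.b_mem))
  · rw [← map_mul, ← map_mul]; exact congrArg _ (Subtype.ext (hc _ S.c_mem))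

end Setup

end Cfsg.Agent.SuzukiElementary
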