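import Cfsg.Prelude.Def_Spor_Mathieu
import Cfsg.Agent.Lib.M11Order.Unique
import Cfsg.Agent.Lib.Perm.Degree11Simple
import Cfsg.Agent.Lib.Perm.PrimeDegree
import Cfsg.Agent.Recognition.MathieuEleven

/-!
A group of order 7920 acting transitively on eleven points with kernel of order at most two is `M₁₁`.
-/

set_option autoImplicit false

namespace Cfsg.Agent.SuzukiElementary

open Cfsg.Agent.Perm.Degree11

theorem isM11_of_action {H α : Type*} [Group H] [Finite H] [MulAction H α] [MulAction.IsPretransitive H α]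
    (hα : Nat.card α = 11) (hH : Nat.card H = 7920)
    (hker : Nat.card (MulAction.toPermHom H α).ker ∣ 2) : Cfsg.IsM11 H := by
  classical
  haveI : Fact (Nat.Prime 11) := ⟨by norm_num⟩
  haveI : Finite α := Nat.finite_of_card_ne_zero (by omega)
  set f := MulAction.toPermHom H α with hf
  let R := f.range
  haveI : MulAction.IsPretransitive R α := ⟨fun x y => by
    obtain ⟨g, hg⟩ := MulAction.exists_smul_eq H x y
    exact ⟨⟨f g, g, rfl⟩, hg⟩⟩
  obtain ⟨e, t, -, ht⟩ := Cfsg.Agent.Perm.PrimeDegree.exists_coord (p := 11) hα R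
  let φ : Equiv.Perm α ≃* Equiv.Perm (ZMod 11) := e.symm.permCongrHom
  let K : Subgroup (Equiv.Perm (ZMod 11)) := R.map φ.toMonoidHom
  have hshift : shift ∈ K := ⟨t, t.2, Equiv.ext fun z => by
    show e.symm ((t : Equiv.Perm α) (e z)) = _
    exact e.symm_apply_eq.2 (ht z)⟩
  have hKR : Nat.card K = Nat.card R := Subgroup.card_map_of_injective φ.injective
  have hprod : Nat.card R * Nat.card f.ker = 7920 := by
    rw [← hH, Subgroup.card_eq_card_quotient_mul_card_subgroup f.ker,
      Nat.card_congr (QuotientGroup.quotientKerEquivRange f).toEquiv]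
  have hk12 : Nat.card f.ker = 1 ∨ Nat.card f.ker = 2 := (Nat.dvd_prime Nat.prime_two).1 hker
  have hbig : 110 < Nat.card K := by rcases hk12 with h | h <;> rw [h] at hprod <;> omega
  have hns := not_solvable_of_card hshift hbig
  have hA : ¬ alternatingGroup (ZMod 11) ≤ K := fun hle => by
    have := Nat.le_of_dvd Nat.card_pos (Subgroup.card_dvd_of_le hle)
    rw [card_A11] at this
    rcases hk12 with h | h <;> rw [h] at hprod <;> omega
  rcases (main hshift hns hA).2 with ⟨h660, -⟩ | h7920
  · rcases hk12 with h | h <;> rw [h] at hprod <;> omega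
  have hk1 : f.ker = ⊥ := by
    refine Subgroup.card_eq_one.1 ?_
    rw [← hKR, h7920] at hprod
    omega
  let ψ : H ≃* K := (MonoidHom.ofInjective (f.ker_eq_bot_iff.1 hk1)).trans
    (R.equivMapOfInjective φ.toMonoidHom φ.injective)
  haveI := isSimpleGroup_of_card_7920 hshift h7920
  exact ⟨ψ.isSimpleGroup, hH⟩

theorem isoM11_of_isM11 {H : Type*} [Group H] [Finite H] (h : Cfsg.IsM11 H) : Cfsg.Spor.IsoM11 H :=
  M11Order.Unique.equiv h Recognition.MathieuEleven.isM11_M11

end Cfsg.Agent.SuzukiElementary
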