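import Cfsg.Agent.Lib.SuzukiElementary.Abelian
import Cfsg.Agent.Lib.SuzukiElementary.Eleven

/-!
The normalizer acts on eleven conjugates of `⟨y⟩` as `M₁₁`.
-/

set_option autoImplicit false
set_option maxRecDepth 8000
set_option synthInstance.maxSize 4096

namespace Cfsg.Agent.SuzukiElementary

open Subgroup Cfsg.Agent.SuzukiThree Cfsg.Agent.SuzukiType

theorem zpowers_conj_eq {G : Type*} [Group G] {u v : G} (h : zpowers u = zpowers v) (g : G) :
    zpowers (g * u * g⁻¹) = zpowers (g * v * g⁻¹) := by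
  have h1 := congrArg (Subgroup.map (MulAut.conj g).toMonoidHom) h
  rw [MonoidHom.map_zpowers, MonoidHom.map_zpowers] at h1
  exact h1

theorem map_conj_zpowers {G : Type*} [Group G] (g u : G) :
    (zpowers u).map (MulAut.conj g).toMonoidHom = zpowers (g * u * g⁻¹) := MonoidHom.map_zpowers _ u

/-- Two Sylow subgroups of order 27 of a group of order 3456. -/
theorem conj_27 {G : Type*} [Group G] [Finite G] {C U V : Subgroup G} (hC : Nat.card C = 3456) (hU : U ≤ C)
    (hV : V ≤ C) (hU27 : Nat.card U = 27) (hV27 : Nat.card V = 27) :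
    ∃ v ∈ C, U.map (MulAut.conj v).toMonoidHom = V := by
  haveI : Fact (Nat.Prime 3) := ⟨Nat.prime_three⟩
  have hf : (3456 : ℕ).factorization 3 = 3 := by
    rw [show (3456 : ℕ) = 128 * 3 ^ 3 by norm_num, Nat.factorization_mul (by norm_num) (by norm_num),
      Finsupp.add_apply, Nat.factorization_pow, Finsupp.smul_apply,
      Nat.factorization_eq_zero_of_not_dvd (by norm_num : ¬ 3 ∣ 128), Nat.Prime.factorization_self Nat.prime_three]
    rfl
  have hc : ∀ {U : Subgroup G}, U ≤ C → Nat.card U = 27 →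
      Nat.card ↥(U.subgroupOf C) = 3 ^ (Nat.card C).factorization 3 := fun {U} h h27 => by
    rw [Nat.card_congr (subgroupOfEquivOfLe h).toEquiv, h27, hC, hf]; norm_num
  set PU : Sylow 3 C := Sylow.ofCard _ (hc hU hU27)
  set PV : Sylow 3 C := Sylow.ofCard _ (hc hV hV27)
  obtain ⟨v, hv⟩ := MulAction.exists_smul_eq C PU PV
  refine ⟨v, v.2, ?_⟩
  have h1 : (U.subgroupOf C).map (MulAut.conj v).toMonoidHom = V.subgroupOf C := congrArg (fun P : Sylow 3 C => (P : Subgroup C)) hv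
  have h2 := congrArg (Subgroup.map C.subtype) h1
  rw [Subgroup.map_map, map_subgroupOf_eq_of_le hV] at h2
  rw [← h2]
  conv_lhs => rw [← map_subgroupOf_eq_of_le hU]
  rw [Subgroup.map_map]
  rfl

variable {G : Type*} [Group G] [Finite G] {Q Q' : Subgroup G} {z a y : G}

namespace Setup

variable {D : Su Q Q' z a y} {X : Type*} [Group X] (S : Setup D X)

/-- The root subgroups above those of the quotient. -/
def IsRoot (L : Subgroup G) : Prop :=
  ∃ g : Cy y, S.T.φ g ∈ normalizer (S.Ab : Set X) ∧ L = zpowers ((g : G) * S.b * (g : G)⁻¹)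

/-- The eleven subgroups. -/
def Om : Type _ := {L : Subgroup G // L ≤ S.A ∧ IsY (y := y) L}

include S

instance om_finite : Finite S.Om := Subtype.finite

theorem yA : y ∈ S.A := S.tri_le_A (Tri.mem_gens S.P).1

theorem conj_mem_A {n : G} (hn : n ∈ normalizer (S.A : Set G)) {x : G} (hx : x ∈ S.A) :
    n * x * n⁻¹ ∈ S.A := (mem_normalizer_iff.1 hn x).1 hx

theorem root_om {L : Subgroup G} (h : S.IsRoot L) : L ≤ S.A ∧ IsY (y := y) L := by
  obtain ⟨g, hg, rfl⟩ := h
  exact ⟨zpowers_le.2 (S.conj_mem_A (S.normalizer_iff.2 hg) (S.tri_le_A S.b_mem)), isY_conj S.exists_g0.1 _⟩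

theorem root_ne {L : Subgroup G} (h : S.IsRoot L) : L ≠ zpowers y := by
  obtain ⟨g, hg, rfl⟩ := h
  intro e
  have h1 := S.phi_zpowers (x := g * S.bw * g⁻¹) (w := S.yw) e
  rw [S.phi_y, zpowers_one_eq_bot, mem_bot, map_mul, map_mul, map_inv, conj_eq_one_iff] at h1
  exact S.par.t_ne h1

/-- The two kinds. -/
theorem om_cases (L : S.Om) : L.1 = zpowers y ∨ S.IsRoot L.1 := by
  obtain ⟨L, hLA, g, rfl⟩ := L
  set x := g * y * g⁻¹
  have hxA : x ∈ S.A := hLA (mem_zpowers x)
  have hox : orderOf x = 3 := by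
    rw [← S.orders.1]
    exact MulEquiv.orderOf_eq (MulAut.conj g) y
  obtain ⟨xw, hxw⟩ : ∃ w : Cy y, (w : G) = x := ⟨⟨x, S.A_le hxA⟩, rfl⟩
  have hY : IsY (y := y) (zpowers x) := ⟨g, rfl⟩
  by_cases h1 : S.T.φ xw = 1
  · refine Or.inl ?_
    show zpowers x = _
    refine eq_of_le_of_card_ge (zpowers_le.2 (hxw ▸ (S.T.ker xw).1 h1)) ?_
    rw [Nat.card_zpowers, Nat.card_zpowers, hox, S.orders.1]
  refine Or.inr ?_
  obtain ⟨n, hn, hnx⟩ := S.par.diag _ (S.mem_A.1 (hxw ▸ hxA))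
  obtain ⟨k, rfl⟩ := S.T.surj n
  have hk : (k : G) * x * (k : G)⁻¹ ∈ tri D S.P := by
    obtain ⟨i, j, e⟩ := pair_closure (S.par.comm _ S.par.t_mem _ S.par.p_mem) hnx
    rw [← hxw]
    refine S.mem_tri_of_phi (x := k * xw * k⁻¹) (w := S.bw ^ i * S.cw ^ j)
      (mul_mem (zpow_mem S.b_mem i) (zpow_mem S.c_mem j)) ?_
    rw [map_mul, map_mul, map_inv, e, map_mul, map_zpow, map_zpow]
    rfl
  have hback : zpowers x = zpowers ((k : G)⁻¹ * ((k : G) * x * (k : G)⁻¹) * ((k : G)⁻¹)⁻¹) := by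
    congr 1; group
  rcases S.isY_cases (isY_conj hY (k : G)) hk with e | e | e
  · refine absurd ?_ h1
    have h2 := S.phi_zpowers (x := k * xw * k⁻¹) (w := S.yw) (by
      show zpowers ((k : G) * xw * (k : G)⁻¹) = _
      rw [hxw]; exact e)
    rw [S.phi_y, zpowers_one_eq_bot, mem_bot, map_mul, map_mul, map_inv, conj_eq_one_iff] at h2
    exact h2
  · refine ⟨k⁻¹, by rw [map_inv]; exact inv_mem hn, ?_⟩
    show zpowers x = _
    rw [hback, zpowers_conj_eq e, Subgroup.coe_inv]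
  · obtain ⟨-, -, g0, hg0, hg0e⟩ := S.exists_g0
    refine ⟨k⁻¹ * g0, by rw [map_mul, map_inv]; exact mul_mem (inv_mem hn) hg0, ?_⟩
    show zpowers x = _
    rw [hback, zpowers_conj_eq e, ← zpowers_conj_eq hg0e]
    congr 1
    rw [Subgroup.coe_mul, Subgroup.coe_inv]
    group

theorem card_roots : Nat.card {L : Subgroup G // S.IsRoot L} = 10 := by
  classical
  let f : {L : Subgroup G // S.IsRoot L} →
      {L : Subgroup X // ∃ n ∈ normalizer (S.Ab : Set X), L = zpowers (n * S.T.φ S.bw * n⁻¹)} := fun L =>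
    ⟨zpowers (S.T.φ L.2.choose * S.T.φ S.bw * (S.T.φ L.2.choose)⁻¹), _, L.2.choose_spec.1, rfl⟩
  have hf : Function.Bijective f := by
    constructor
    · intro L L' e
      have e1 := congrArg Subtype.val e
      obtain ⟨hg, hL⟩ := L.2.choose_spec
      obtain ⟨hg', hL'⟩ := L'.2.choose_spec
      set g := L.2.choose
      set g' := L'.2.choose
      have e' : zpowers (S.T.φ g * S.T.φ S.bw * (S.T.φ g)⁻¹) = zpowers (S.T.φ g' * S.T.φ S.bw * (S.T.φ g')⁻¹) :=
        e1
      have h1 : zpowers ((g'⁻¹ * g : Cy y) * S.b * ((g'⁻¹ * g : Cy y) : G)⁻¹) = zpowers S.b := by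
        refine S.over_t (x := g'⁻¹ * g * S.bw * (g'⁻¹ * g)⁻¹) (isY_conj S.exists_g0.1 _) ?_ ?_
        · simp only [map_mul, map_inv, mul_inv_rev, inv_inv]
          have e2 := zpowers_conj_eq e' (S.T.φ g')⁻¹
          have e3 : (S.T.φ g')⁻¹ * (S.T.φ g' * S.T.φ S.bw * (S.T.φ g')⁻¹) * ((S.T.φ g')⁻¹)⁻¹ = S.T.φ S.bw := by
            group
          rw [← (e2.trans (congrArg zpowers e3))]
          have hm := mem_zpowers ((S.T.φ g')⁻¹ * (S.T.φ g * S.T.φ S.bw * (S.T.φ g)⁻¹) * ((S.T.φ g')⁻¹)⁻¹)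
          convert hm using 1
          group
        · rw [map_mul, map_mul, map_inv]
          exact fun h => S.par.t_ne (conj_eq_one_iff.1 h)
      refine Subtype.ext ?_
      rw [hL, hL', ← zpowers_conj_eq h1 (g' : G)]
      congr 1
      rw [Subgroup.coe_mul, Subgroup.coe_inv]
      group
    · rintro ⟨M, n, hn, rfl⟩
      obtain ⟨g, rfl⟩ := S.T.surj n
      have hr : S.IsRoot (zpowers ((g : G) * S.b * (g : G)⁻¹)) := ⟨g, hn, rfl⟩
      refine ⟨⟨_, hr⟩, Subtype.ext ?_⟩
      obtain ⟨hg', hL'⟩ := hr.choose_spec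
      set g' := hr.choose
      show zpowers (S.T.φ g' * S.T.φ S.bw * (S.T.φ g')⁻¹) = zpowers (S.T.φ g * S.T.φ S.bw * (S.T.φ g)⁻¹)
      rw [← map_inv, ← map_inv, ← map_mul, ← map_mul, ← map_mul, ← map_mul]
      haveI : Finite X := Finite.of_surjective _ S.T.surj
      refine le_antisymm (zpowers_le.2 (S.phi_zpowers (x := g' * S.bw * g'⁻¹) (w := g * S.bw * g⁻¹) hL'.symm))
        (zpowers_le.2 (S.phi_zpowers (x := g * S.bw * g⁻¹) (w := g' * S.bw * g'⁻¹) hL'))
  rw [Nat.card_eq_of_bijective f hf]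
  exact S.par.roots

theorem card_Om : Nat.card S.Om = 11 := by
  classical
  let f : Option {L : Subgroup G // S.IsRoot L} → S.Om := fun o =>
    o.elim ⟨zpowers y, zpowers_le.2 S.yA, 1, by simp⟩ fun L => ⟨L.1, S.root_om L.2⟩
  have hf : Function.Bijective f := by
    constructor
    · rintro (_ | L) (_ | L') e
      · rfl
      · exact absurd (congrArg Subtype.val e).symm (S.root_ne L'.2)
      · exact absurd (congrArg Subtype.val e) (S.root_ne L.2)
      · exact congrArg some (Subtype.ext (show L.1 = L'.1 from congrArg (fun o : S.Om => o.1) e))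
    · intro L
      rcases S.om_cases L with e | e
      · exact ⟨none, Subtype.ext e.symm⟩
      · exact ⟨some ⟨L.1, e⟩, rfl⟩
  rw [← Nat.card_eq_of_bijective f hf, Finite.card_option, S.card_roots]

theorem card_tri : Nat.card (tri D S.P) = 27 := by
  haveI : Finite X := Finite.of_surjective _ S.T.surj
  have h : ((closure {S.T.φ S.bw, S.T.φ S.cw}).comap S.T.φ).map (Subgroup.subtype (Cy y)) = tri D S.P := by
    refine le_antisymm ?_ fun x hx => ?_
    · rintro _ ⟨x, hx, rfl⟩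
      obtain ⟨i, j, e⟩ := pair_closure (S.par.comm _ S.par.t_mem _ S.par.p_mem) hx
      exact S.mem_tri_of_phi (x := x) (w := S.bw ^ i * S.cw ^ j)
        (mul_mem (zpow_mem S.b_mem i) (zpow_mem S.c_mem j)) (by rw [e, map_mul, map_zpow, map_zpow]; rfl)
    · have hle : tri D S.P ≤ ((closure {S.T.φ S.bw, S.T.φ S.cw}).comap S.T.φ).map (Subgroup.subtype (Cy y)) := by
        refine S.tri_le_closure.trans ((closure_le _).2 ?_)
        rintro u (e | e | e) <;> rw [e]
        · exact ⟨S.yw, by show S.T.φ S.yw ∈ closure ({S.T.φ S.bw, S.T.φ S.cw} : Set X); rw [S.phi_y]; exact one_mem _, rfl⟩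
        · exact ⟨S.bw, subset_closure (Or.inl rfl), rfl⟩
        · exact ⟨S.cw, subset_closure (Or.inr rfl), rfl⟩
      exact hle hx
  rw [← h, card_map_of_injective (Subgroup.subtype_injective _), S.card_comap,
    show Nat.card ↥(closure ({S.T.φ S.bw, S.T.φ S.cw} : Set X)) = 9 from
      card_pair S.par.ord_t.1 S.par.ord_t.2 (S.par.comm _ S.par.t_mem _ S.par.p_mem) S.par.tp_ne]

/-- An element of `C(z)` carrying `y` into the triangle can be chosen to normalize the abelian group. -/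
theorem adjust {u : G} (hu : u * z = z * u) (hx : u * y * u⁻¹ ∈ tri D S.P) :
    ∃ h ∈ normalizer (S.A : Set G), h * y * h⁻¹ = u * y * u⁻¹ := by
  set x := u * y * u⁻¹ with hxd
  have hC : Nat.card ↥(cc z x) = 3456 := by
    have : cc z x = (cc z y).map (MulAut.conj u).toMonoidHom := by
      ext g
      constructor
      · intro hg
        obtain ⟨h1, h2⟩ := mem_cc.1 hg
        refine ⟨u⁻¹ * g * u, mem_cc.2 ⟨?_, ?_⟩, by simp [mul_assoc]⟩
        · exact SuzukiType.mul_z (SuzukiType.mul_z (inv_z hu) h1) hu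
        · calc u⁻¹ * g * u * y = u⁻¹ * (g * (u * y * u⁻¹)) * u := by group
            _ = _ := by rw [← hxd, h2, hxd]; group
      · rintro ⟨g, hg, rfl⟩
        obtain ⟨h1, h2⟩ := mem_cc.1 hg
        refine mem_cc.2 ⟨SuzukiType.mul_z (SuzukiType.mul_z hu h1) (inv_z hu), ?_⟩
        show u * g * u⁻¹ * x = x * (u * g * u⁻¹)
        calc u * g * u⁻¹ * x = u * (g * y) * u⁻¹ := by rw [hxd]; group
          _ = _ := by rw [h2, hxd]; group
    rw [this, card_map_of_injective (MulAut.conj u).injective]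
    exact D.card_CC
  have hV : tri D S.P ≤ cc z x := fun w hw =>
    mem_cc.2 ⟨(mem_cc.1 (Tri.le_cc S.P hw)).1, Tri.comm S.P w hw x hx⟩
  have hU : (tri D S.P).map (MulAut.conj u).toMonoidHom ≤ cc z x := by
    rintro _ ⟨w, hw, rfl⟩
    obtain ⟨h1, h2⟩ := mem_cc.1 (Tri.le_cc S.P hw)
    refine mem_cc.2 ⟨SuzukiType.mul_z (SuzukiType.mul_z hu h1) (inv_z hu), ?_⟩
    show u * w * u⁻¹ * x = x * (u * w * u⁻¹)
    calc u * w * u⁻¹ * x = u * (w * y) * u⁻¹ := by rw [hxd]; group
      _ = _ := by rw [h2, hxd]; group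
  obtain ⟨v, hv, hve⟩ := conj_27 hC hU hV
    (by rw [card_map_of_injective (MulAut.conj u).injective, S.card_tri]) S.card_tri
  have hvx : v * x * v⁻¹ = x := by rw [(mem_cc.1 hv).2, mul_inv_cancel_right]
  refine ⟨v * u, ?_, ?_⟩
  · have htri : ∀ w ∈ tri D S.P, (v * u)⁻¹ * w * (v * u) ∈ tri D S.P := fun w hw => by
      rw [← hve] at hw
      obtain ⟨_, ⟨w', hw', rfl⟩, e⟩ := hw
      rw [← e]
      simpa [mul_assoc] using hw'
    refine mem_normalizer_fintype fun w hw => ?_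
    obtain ⟨h3, hc⟩ := S.mem_A_iff.1 hw
    refine S.mem_A_iff.2 ⟨by rw [conj_pow, h3, mul_one, mul_inv_cancel], fun t ht => ?_⟩
    calc v * u * w * (v * u)⁻¹ * t = v * u * (w * ((v * u)⁻¹ * t * (v * u))) * (v * u)⁻¹ := by group
      _ = _ := by rw [hc _ (htri t ht)]; group
  · calc v * u * y * (v * u)⁻¹ = v * x * v⁻¹ := by rw [hxd]; group
      _ = x := hvx

/-- Inversion of `y` inside the normalizer. -/
theorem exists_k : ∃ k ∈ normalizer (S.A : Set G), k * y * k⁻¹ = y⁻¹ := by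
  obtain ⟨k, hkz, hky⟩ := S.inv_y
  obtain ⟨h, hh, he⟩ := S.adjust hkz (by rw [hky]; exact inv_mem (Tri.mem_gens S.P).1)
  exact ⟨h, hh, he.trans hky⟩

/-- The orbit of `⟨y⟩` is everything. -/
theorem exists_to (L : S.Om) : ∃ n ∈ normalizer (S.A : Set G), zpowers (n * y * n⁻¹) = L.1 := by
  rcases S.om_cases L with e | ⟨g, hg, e⟩
  · exact ⟨1, one_mem _, by rw [e]; simp⟩
  obtain ⟨v, hv⟩ := S.exists_g0.1
  have hmem : v * y * v⁻¹ ∈ tri D S.P := zpowers_le.2 S.b_mem (hv.symm ▸ mem_zpowers _)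
  obtain ⟨c0, hc0, hce⟩ := S.exists_cz (mem_cc.1 (Tri.le_cc S.P hmem)).1
  obtain ⟨h, hh, he⟩ := S.adjust hc0 (hce.symm ▸ hmem)
  refine ⟨(g : G) * h, mul_mem (S.normalizer_iff.2 hg) hh, ?_⟩
  rw [e, zpowers_conj_eq hv (g : G)]
  congr 1
  rw [← hce, ← he]
  group

theorem smul_mem {n : G} (hn : n ∈ normalizer (S.A : Set G)) {L : Subgroup G} (h : L ≤ S.A ∧ IsY (y := y) L) :
    L.map (MulAut.conj n).toMonoidHom ≤ S.A ∧ IsY (y := y) (L.map (MulAut.conj n).toMonoidHom) := by
  refine ⟨?_, ?_⟩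
  · rintro _ ⟨x, hx, rfl⟩
    exact S.conj_mem_A hn (h.1 hx)
  · obtain ⟨g, hg⟩ := h.2
    rw [hg, map_conj_zpowers]
    exact isY_conj ⟨g, rfl⟩ n

/-- The action. -/
instance action : MulAction ↥(normalizer (S.A : Set G)) S.Om where
  smul n L := ⟨L.1.map (MulAut.conj (n : G)).toMonoidHom, S.smul_mem n.2 L.2⟩
  one_smul L := Subtype.ext (by
    show L.1.map (MulAut.conj ((1 : ↥(normalizer (S.A : Set G))) : G)).toMonoidHom = L.1
    rw [Subgroup.coe_one, map_one]
    exact Subgroup.map_id L.1)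
  mul_smul m n L := Subtype.ext (by
    show L.1.map (MulAut.conj ((m * n : ↥(normalizer (S.A : Set G))) : G)).toMonoidHom = (L.1.map _).map _
    rw [Subgroup.map_map, Subgroup.coe_mul, map_mul]
    rfl)

theorem smul_val (n : ↥(normalizer (S.A : Set G))) (L : S.Om) :
    (n • L).1 = L.1.map (MulAut.conj (n : G)).toMonoidHom := rfl

/-- The base point. -/
def pt : S.Om := ⟨zpowers y, zpowers_le.2 S.yA, 1, by simp⟩

theorem transitive : MulAction.IsPretransitive ↥(normalizer (S.A : Set G)) S.Om := by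
  have h : ∀ L : S.Om, ∃ n : ↥(normalizer (S.A : Set G)), n • S.pt = L := fun L => by
    obtain ⟨n, hn, e⟩ := S.exists_to L
    exact ⟨⟨n, hn⟩, Subtype.ext (by rw [smul_val]; exact (map_conj_zpowers n y).trans e)⟩
  refine ⟨fun L M => ?_⟩
  obtain ⟨m, hm⟩ := h L
  obtain ⟨n, hn⟩ := h M
  exact ⟨n * m⁻¹, by rw [← hm, mul_smul, inv_smul_smul, hn]⟩

theorem conj_y_cases {n : ↥(normalizer (S.A : Set G))} (h : n • S.pt = S.pt) :
    (n : G) * y * (n : G)⁻¹ = y ∨ (n : G) * y * (n : G)⁻¹ = y⁻¹ := by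
  have e : zpowers ((n : G) * y * (n : G)⁻¹) = zpowers y :=
    (map_conj_zpowers (n : G) y).symm.trans (congrArg Subtype.val h)
  rcases zpow_cases D.y3 (e ▸ mem_zpowers _ : (n : G) * y * (n : G)⁻¹ ∈ zpowers y) with h' | h' | h'
  · exact absurd (conj_eq_one_iff.1 h') D.y_ne
  · exact Or.inl h'
  · exact Or.inr h'

theorem fix_pt {n : ↥(normalizer (S.A : Set G))}
    (h : (n : G) * y * (n : G)⁻¹ = y ∨ (n : G) * y * (n : G)⁻¹ = y⁻¹) : n • S.pt = S.pt := by
  refine Subtype.ext ?_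
  rw [smul_val]
  refine (map_conj_zpowers (n : G) y).trans ?_
  rcases h with e | e <;> rw [e]
  · rfl
  · exact zpowers_inv

theorem y_ne_inv : y⁻¹ ≠ y := fun e => D.y_ne (by
  have h : y ^ 3 = 1 := D.y3
  rw [pow_succ, pow_two] at h
  have h2 : y * y = 1 := inv_eq_iff_mul_eq_one.1 e
  rwa [h2, one_mul] at h)

theorem card_cent_normalizer : Nat.card ↥(Cy y ⊓ normalizer (S.A : Set G)) = 87480 := by
  haveI : Finite X := Finite.of_surjective _ S.T.surj
  have h : ((normalizer (S.Ab : Set X)).comap S.T.φ).map (Subgroup.subtype (Cy y)) =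
      Cy y ⊓ normalizer (S.A : Set G) := by
    ext x
    constructor
    · rintro ⟨g, hg, rfl⟩
      exact ⟨g.2, S.normalizer_iff.2 hg⟩
    · rintro ⟨hx, hx'⟩
      exact ⟨⟨x, hx⟩, S.normalizer_iff.1 (show ((⟨x, hx⟩ : Cy y) : G) ∈ _ from hx'), rfl⟩
  rw [← h, card_map_of_injective (Subgroup.subtype_injective _), S.card_comap, S.par.card_N]

theorem card_normalizer : Nat.card ↥(normalizer (S.A : Set G)) = 1924560 := by
  classical
  haveI := S.transitive
  set N := normalizer (S.A : Set G)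
  set H := MulAction.stabilizer ↥N S.pt
  have h1 := H.card_mul_index
  rw [MulAction.index_stabilizer_of_transitive ↥N S.pt, S.card_Om] at h1
  obtain ⟨k, hk, hky⟩ := S.exists_k
  have hfix : ∀ w : ↥(Cy y ⊓ N), (w : G) * y * (w : G)⁻¹ = y := fun w => by
    rw [mem_centralizer_singleton_iff.1 w.2.1, mul_inv_cancel_right]
  let f : Bool × ↥(Cy y ⊓ N) → H := fun p =>
    if p.1 then ⟨⟨(p.2 : G) * k, mul_mem p.2.2.2 hk⟩, S.fix_pt (Or.inr (by
      show (p.2 : G) * k * y * ((p.2 : G) * k)⁻¹ = y⁻¹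
      calc _ = (p.2 : G) * (k * y * k⁻¹) * (p.2 : G)⁻¹ := by group
        _ = ((p.2 : G) * y * (p.2 : G)⁻¹)⁻¹ := by rw [hky]; group
        _ = y⁻¹ := by rw [hfix]))⟩
    else ⟨⟨p.2, p.2.2.2⟩, S.fix_pt (Or.inl (hfix p.2))⟩
  have hkW : k * y * k⁻¹ ≠ y := by rw [hky]; exact S.y_ne_inv
  have hf : Function.Bijective f := by
    constructor
    · rintro ⟨b, w⟩ ⟨b', w'⟩ e
      have e' := congrArg (fun n : H => ((n : ↥N) : G)) e
      have hmix : ∀ w w' : ↥(Cy y ⊓ N), (w : G) * k ≠ w' := fun w w' e => hkW (by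
        have h := hfix (w⁻¹ * w')
        rwa [Subgroup.coe_mul, Subgroup.coe_inv, ← e, inv_mul_cancel_left] at h)
      cases b <;> cases b' <;> simp only [f, Bool.false_eq_true, if_false, if_true] at e'
      · rw [Subtype.ext e']
      · exact absurd e'.symm (hmix w' w)
      · exact absurd e' (hmix w w')
      · rw [Subtype.ext (mul_right_cancel e')]
    · intro n
      have hn : ((n : ↥N) : G) ∈ N := (n : ↥N).2
      rcases S.conj_y_cases n.2 with e | e
      · refine ⟨(false, ⟨((n : ↥N) : G), mem_centralizer_singleton_iff.2 (mul_inv_eq_iff_eq_mul.1 e), hn⟩), ?_⟩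
        exact Subtype.ext (Subtype.ext rfl)
      · refine ⟨(true, ⟨((n : ↥N) : G) * k⁻¹, mem_centralizer_singleton_iff.2 (mul_inv_eq_iff_eq_mul.1 ?_),
          N.mul_mem hn (N.inv_mem hk)⟩), ?_⟩
        · have hk' : k⁻¹ * y * k = y⁻¹ := by
            have h := congrArg (fun v => k⁻¹ * v⁻¹ * k) hky
            simp only [inv_inv] at h
            rw [← h]; group
          calc ((n : ↥N) : G) * k⁻¹ * y * (((n : ↥N) : G) * k⁻¹)⁻¹
              = ((n : ↥N) : G) * (k⁻¹ * y * k) * ((n : ↥N) : G)⁻¹ := by group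
            _ = (((n : ↥N) : G) * y * ((n : ↥N) : G)⁻¹)⁻¹ := by rw [hk']; group
            _ = y := by rw [e, inv_inv]
        · exact Subtype.ext (Subtype.ext (inv_mul_cancel_right _ _))
  rw [← Nat.card_eq_of_bijective f hf, Nat.card_prod, S.card_cent_normalizer,
    Nat.card_eq_fintype_card (α := Bool), Fintype.card_bool] at h1
  omega

/-- An element of `C(y)` fixing all eleven subgroups lies in the abelian group. -/
theorem kernel_cent {n : ↥(normalizer (S.A : Set G))} (hn : (n : G) ∈ Cy y) (h : ∀ L : S.Om, n • L = L) :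
    (n : G) ∈ S.A := by
  obtain ⟨w, hw⟩ : ∃ w : Cy y, (w : G) = n := ⟨⟨n, hn⟩, rfl⟩
  rw [← hw, S.mem_A]
  refine S.par.faithful _ (S.normalizer_iff.1 (hw ▸ n.2)) fun m hm => ?_
  obtain ⟨g, rfl⟩ := S.T.surj m
  have hL : (zpowers ((g : G) * S.b * (g : G)⁻¹)).map (MulAut.conj (n : G)).toMonoidHom =
      zpowers ((g : G) * S.b * (g : G)⁻¹) := congrArg Subtype.val (h ⟨_, S.root_om ⟨g, hm, rfl⟩⟩)
  rw [map_conj_zpowers] at hL
  have h1 := S.phi_zpowers (x := w * (g * S.bw * g⁻¹) * w⁻¹) (w := g * S.bw * g⁻¹) (by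
    rw [← hw] at hL; exact hL)
  simp only [map_mul, map_inv] at h1
  exact h1

theorem A_normal : (S.A.subgroupOf (normalizer (S.A : Set G))).Normal := normal_in_normalizer

/-- The quotient is `M₁₁`. -/
theorem quotient_m11 [(S.A.subgroupOf (normalizer (S.A : Set G))).Normal] :
    Cfsg.IsM11 (↥(normalizer (S.A : Set G)) ⧸ S.A.subgroupOf (normalizer (S.A : Set G))) := by
  classical
  set N := normalizer (S.A : Set G)
  set A' := S.A.subgroupOf N
  have hA' : A' ≤ (MulAction.toPermHom ↥N S.Om).ker := fun n hn => by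
    refine MonoidHom.mem_ker.2 (Equiv.ext fun L => Subtype.ext ?_)
    show L.1.map (MulAut.conj (n : G)).toMonoidHom = L.1
    have hfix : ∀ x ∈ L.1, (n : G) * x * (n : G)⁻¹ = x := fun x hx => by
      rw [S.A_comm_cube.1 _ (mem_subgroupOf.1 hn) x (L.2.1 hx), mul_inv_cancel_right]
    ext x
    constructor
    · rintro ⟨x, hx, rfl⟩
      show (n : G) * x * (n : G)⁻¹ ∈ L.1
      rw [hfix x hx]; exact hx
    · exact fun hx => ⟨x, hx, hfix x hx⟩
  let σ : ↥N ⧸ A' →* Equiv.Perm S.Om := QuotientGroup.lift A' (MulAction.toPermHom ↥N S.Om) hA'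
  letI : MulAction (↥N ⧸ A') S.Om := MulAction.compHom S.Om σ
  have hsm : ∀ (n : ↥N) (L : S.Om), (QuotientGroup.mk n : ↥N ⧸ A') • L = n • L := fun n L => rfl
  haveI : MulAction.IsPretransitive (↥N ⧸ A') S.Om := ⟨fun L M => by
    haveI := S.transitive
    obtain ⟨n, hn⟩ := MulAction.exists_smul_eq ↥N L M
    exact ⟨QuotientGroup.mk n, (hsm n L).trans hn⟩⟩
  have hA243 : Nat.card ↥A' = 243 := by
    haveI : Finite X := Finite.of_surjective _ S.T.surj
    rw [Nat.card_congr (subgroupOfEquivOfLe le_normalizer).toEquiv, S.card_A]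
  refine isM11_of_action S.card_Om ?_ ?_
  · have h := Subgroup.card_eq_card_quotient_mul_card_subgroup A'
    rw [S.card_normalizer, hA243] at h
    exact Nat.eq_of_mul_eq_mul_right (show 0 < 243 by norm_num) (h.symm.trans (by norm_num))
  · set K := (MulAction.toPermHom (↥N ⧸ A') S.Om).ker
    have hmem : ∀ n : ↥N, (QuotientGroup.mk n : ↥N ⧸ A') ∈ K → ∀ L : S.Om, n • L = L := fun n hn L => by
      have := congrArg (fun e : Equiv.Perm S.Om => e L) (MonoidHom.mem_ker.1 hn)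
      exact this
    have hone : ∀ n : ↥N, (QuotientGroup.mk n : ↥N ⧸ A') ∈ K → (n : G) * y * (n : G)⁻¹ = y →
        (QuotientGroup.mk n : ↥N ⧸ A') = 1 := fun n hn e =>
      (QuotientGroup.eq_one_iff n).2 (mem_subgroupOf.2
        (S.kernel_cent (mem_centralizer_singleton_iff.2 (mul_inv_eq_iff_eq_mul.1 e)) (hmem n hn)))
    have hle : Nat.card ↥K ≤ 2 := by
      let f : ↥K → Bool := fun x => decide (((Quotient.out x.1 : ↥N) : G) * y * ((Quotient.out x.1 : ↥N) : G)⁻¹ = y)
      have hf : Function.Injective f := by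
        rintro ⟨u, hu⟩ ⟨v, hv⟩ e
        have hu' : (QuotientGroup.mk (Quotient.out u) : ↥N ⧸ A') = u := QuotientGroup.out_eq' u
        have hv' : (QuotientGroup.mk (Quotient.out v) : ↥N ⧸ A') = v := QuotientGroup.out_eq' v
        set n := Quotient.out u
        set m := Quotient.out v
        have e' : ((n : G) * y * (n : G)⁻¹ = y) ↔ ((m : G) * y * (m : G)⁻¹ = y) := by
          simpa [f] using e
        have hy : (n : G) * y * (n : G)⁻¹ = (m : G) * y * (m : G)⁻¹ := by
          by_cases h : (n : G) * y * (n : G)⁻¹ = y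
          · rw [h, e'.1 h]
          · rw [(S.conj_y_cases (hmem n (hu'.symm ▸ hu) S.pt)).resolve_left h,
              (S.conj_y_cases (hmem m (hv'.symm ▸ hv) S.pt)).resolve_left (fun h' => h (e'.2 h'))]
        refine Subtype.ext ?_
        show u = v
        have h1 := hone (n⁻¹ * m) (by
          rw [QuotientGroup.mk_mul, QuotientGroup.mk_inv, hu', hv']
          exact mul_mem (inv_mem hu) hv) (by
          rw [Subgroup.coe_mul, Subgroup.coe_inv]
          calc (n : G)⁻¹ * m * y * ((n : G)⁻¹ * m)⁻¹ = (n : G)⁻¹ * ((m : G) * y * (m : G)⁻¹) * n := by group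
            _ = y := by rw [← hy]; group)
        rw [QuotientGroup.mk_mul, QuotientGroup.mk_inv, hu', hv', inv_mul_eq_one] at h1
        exact h1
      have := Nat.card_le_card_of_injective f hf
      rwa [Nat.card_eq_fintype_card (α := Bool), Fintype.card_bool] at this
    have hpos : 0 < Nat.card ↥K := Nat.card_pos
    have : Nat.card ↥K = 1 ∨ Nat.card ↥K = 2 := by omega
    rcases this with h | h <;> rw [h]
    exact one_dvd 2

end Setup

end Cfsg.Agent.SuzukiElementary
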