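import Cfsg.Agent.Lib.SuzukiThree.PsuRoot
import Cfsg.Agent.Lib.Classical.UnitaryBasic

/-!
`PSU₄(3)` in a basis through a totally isotropic plane.
-/

set_option autoImplicit false
set_option maxRecDepth 20000
set_option synthInstance.maxSize 4096

namespace Cfsg.Agent.SuzukiElementary.PlaneU

open Matrix Cfsg.Agent.MonomialMult Cfsg.Agent.SuzukiThree Cfsg.Agent.Classical.Unitary

/-- Two by two matrices. -/
abbrev B2 : Type := Matrix (Fin 2) (Fin 2) Nine

/-- Four by four matrices in block form. -/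
abbrev B4 : Type := Matrix (Fin 2 ⊕ Fin 2) (Fin 2 ⊕ Fin 2) Nine

/-- The conjugation of the field. -/
abbrev cj : Nine →+* Nine := Forms.HermStd.qHom Nine.card

theorem cj_mul (x : Nine) : cj x = x * x * x := by simp [pow_succ, mul_assoc]

/-- Reading a code. -/
abbrev o (k : ℕ) : Nine := Nine.ofN k

/-- The basis: an isotropic plane and its partner. -/
def baseM : Matrix (Fin 4) (Fin 2 ⊕ Fin 2) Nine :=
  Matrix.of fun i => Sum.elim (![![o 1, o 0], ![o 3, o 0], ![o 0, o 1], ![o 0, o 3]] i)
    (![![o 7, o 0], ![o 8, o 0], ![o 0, o 7], ![o 0, o 8]] i)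

/-- The Gram matrix. -/
def gram : B4 := fromBlocks 0 1 1 0

/-- The inverse basis change. -/
def baseI : Matrix (Fin 2 ⊕ Fin 2) (Fin 4) Nine := gram * (baseM.map fun x => x * x * x)ᵀ

theorem base_facts : baseI * baseM = 1 ∧ baseM * baseI = 1 ∧
    baseMᵀ * (baseM.map fun x => x * x * x) = gram := by decide +kernel

/-- An element in blocks. -/
def blk (a : Cfsg.SU 4 Nine 3) : B4 := baseI * mat a * baseM

theorem blk_mul (a b : Cfsg.SU 4 Nine 3) : blk (a * b) = blk a * blk b := by
  show baseI * (mat a * mat b) * baseM = baseI * mat a * baseM * (baseI * mat b * baseM)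
  have h : mat a = mat a * (baseM * baseI) := by rw [base_facts.2.1, Matrix.mul_one]
  conv_lhs => rw [h]
  simp only [Matrix.mul_assoc]

theorem blk_one : blk 1 = 1 := by
  show baseI * (1 : Matrix (Fin 4) (Fin 4) Nine) * baseM = 1
  rw [Matrix.mul_one, base_facts.1]

theorem blk_inj {a b : Cfsg.SU 4 Nine 3} (h : blk a = blk b) : a = b := by
  have e : ∀ c : Cfsg.SU 4 Nine 3, baseM * blk c * baseI = mat c := fun c => by
    show baseM * (baseI * mat c * baseM) * baseI = mat c
    rw [← Matrix.mul_assoc, ← Matrix.mul_assoc, base_facts.2.1, Matrix.one_mul, Matrix.mul_assoc,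
      base_facts.2.1, Matrix.mul_one]
  exact Subtype.ext (Subtype.ext ((e a).symm.trans ((congrArg (fun N => baseM * N * baseI) h).trans (e b))))

theorem map_cube (M : Matrix (Fin 4) (Fin 2 ⊕ Fin 2) Nine) : (M.map fun x => x * x * x) = M.map cj :=
  congrArg M.map (funext fun x => (cj_mul x).symm)

theorem blk_unitary (a : Cfsg.SU 4 Nine 3) : (blk a)ᵀ * gram * (blk a).map cj = gram := by
  have h := (preserves_iff Nine.card (mat a)).1 a.2
  have e := base_facts.2.2
  rw [map_cube] at e
  have e1 : baseM * blk a = mat a * baseM := by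
    show baseM * (baseI * mat a * baseM) = _
    rw [← Matrix.mul_assoc, ← Matrix.mul_assoc, base_facts.2.1, Matrix.one_mul]
  calc (blk a)ᵀ * gram * (blk a).map cj = (baseM * blk a)ᵀ * (baseM * blk a).map cj := by
        rw [← e, Matrix.map_mul, Matrix.transpose_mul]; simp only [Matrix.mul_assoc]
    _ = baseMᵀ * ((mat a)ᵀ * (mat a).map cj) * baseM.map cj := by
        rw [e1, Matrix.map_mul, Matrix.transpose_mul]; simp only [Matrix.mul_assoc]
    _ = gram := by rw [h, Matrix.mul_one, e]

theorem exists_blk {N : B4} (hd : N.det = 1) (hu : Nᵀ * gram * N.map cj = gram) :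
    ∃ a : Cfsg.SU 4 Nine 3, blk a = N := by
  have e := base_facts.2.2
  rw [map_cube] at e
  have hu' : Nᵀ * baseMᵀ * (baseM * N).map cj = gram := by
    rw [Matrix.map_mul, ← Matrix.mul_assoc, Matrix.mul_assoc Nᵀ baseMᵀ, e, hu]
  have hbI : baseIᵀ * baseMᵀ = (1 : Matrix (Fin 4) (Fin 4) Nine) := by
    rw [← Matrix.transpose_mul, base_facts.2.1, Matrix.transpose_one]
  have hp : (baseM * N * baseI)ᵀ * (baseM * N * baseI).map cj = 1 := by
    rw [Matrix.transpose_mul, Matrix.map_mul, Matrix.transpose_mul]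
    calc baseIᵀ * (Nᵀ * baseMᵀ) * ((baseM * N).map cj * baseI.map cj)
        = baseIᵀ * (Nᵀ * baseMᵀ * (baseM * N).map cj) * baseI.map cj := by simp only [Matrix.mul_assoc]
      _ = baseIᵀ * baseMᵀ * (baseM * baseI).map cj := by
          rw [hu', ← e, Matrix.map_mul]; simp only [Matrix.mul_assoc]
      _ = 1 := by rw [hbI, base_facts.2.1, Matrix.map_one _ (map_zero cj) (map_one cj), Matrix.one_mul]
  refine ⟨suMk (baseM * N * baseI) ?_ ((preserves_iff Nine.card _).2 hp), ?_⟩
  · rw [Matrix.det_conj_of_mul_eq_one base_facts.2.1 base_facts.1, hd]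
  · show baseI * (baseM * N * baseI) * baseM = N
    rw [← Matrix.mul_assoc, ← Matrix.mul_assoc, base_facts.1, Matrix.one_mul, Matrix.mul_assoc,
      base_facts.1, Matrix.mul_one]

/-- The transformation of the unipotent part. -/
def act (P B : B2) : B2 := P * B * (P.map cj)ᵀ

/-- A partner of `P`. -/
noncomputable def dual (P : B2) : B2 := (P.map cj)ᵀ.det • (P.map cj)ᵀ.adjugate

theorem three_fix : ∀ x : Nine, x * x * x = x → x ≠ 0 → x = 1 ∨ x = -1 := by decide +kernel

/-- The stabilizer of the plane. -/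
theorem stab_eqs {a : Cfsg.SU 4 Nine 3} {P Q D : B2} (h : blk a = fromBlocks P Q 0 D) :
    (P.map cj)ᵀ * D = 1 ∧ Qᵀ * D.map cj + Dᵀ * Q.map cj = 0 ∧ (P.det = 1 ∨ P.det = -1) := by
  have hu := blk_unitary a
  rw [h, gram, fromBlocks_transpose, fromBlocks_map, fromBlocks_multiply, fromBlocks_multiply] at hu
  simp only [Matrix.transpose_zero, Matrix.zero_mul, Matrix.mul_zero, add_zero, zero_add, Matrix.mul_one,
    Matrix.map_zero _ (map_zero cj)] at hu
  obtain ⟨-, h12, -, h22⟩ := fromBlocks_inj.1 hu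
  have hcc : ∀ M : B2, (M.map cj).map cj = M := fun M => by
    ext i j; simp [Forms.HermStd.pow_q_q Nine.card]
  have hPD : (P.map cj)ᵀ * D = 1 := by
    have := congrArg (fun M => M.map cj) h12
    rwa [Matrix.map_mul, hcc, Matrix.transpose_map, Matrix.map_one _ (map_zero cj) (map_one cj)] at this
  refine ⟨hPD, by rwa [add_comm] at h22, ?_⟩
  have hd : P.det * D.det = 1 := by
    rw [← det_fromBlocks_zero₂₁ P Q D, ← h, blk,
      Matrix.det_conj_of_mul_eq_one base_facts.1 base_facts.2.1]
    exact a.1.2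
  have hd2 := congrArg Matrix.det hPD
  rw [Matrix.det_mul, Matrix.det_transpose, ← RingHom.mapMatrix_apply, ← RingHom.map_det, Matrix.det_one] at hd2
  have hD0 : D.det ≠ 0 := right_ne_zero_of_mul_eq_one hd
  have hfix : cj P.det = P.det := mul_right_cancel₀ hD0 (hd2.trans hd.symm)
  exact three_fix _ (by rw [← cj_mul, hfix]) (left_ne_zero_of_mul_eq_one hd)

theorem dual_spec {P : B2} (hP : P.det = 1 ∨ P.det = -1) :
    (P.map cj)ᵀ * dual P = 1 ∧ (dual P).det = P.det := by
  have hd : ((P.map cj)ᵀ).det = P.det := by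
    rw [Matrix.det_transpose, ← RingHom.mapMatrix_apply, ← RingHom.map_det]
    rcases hP with h | h <;> rw [h]
    · exact map_one cj
    · rw [map_neg, map_one]
  refine ⟨?_, ?_⟩
  · rw [dual, Matrix.mul_smul, Matrix.mul_adjugate, hd, smul_smul]
    rcases hP with h | h <;> rw [h] <;> simp
  · rw [dual, Matrix.det_smul, hd, Matrix.det_adjugate, hd]
    rcases hP with h | h <;> rw [h] <;> simp

/-- Lifting a Levi element. -/
theorem exists_levi {P : B2} (hP : P.det = 1 ∨ P.det = -1) :
    ∃ a : Cfsg.SU 4 Nine 3, blk a = fromBlocks P 0 0 (dual P) := by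
  obtain ⟨h1, h2⟩ := dual_spec hP
  refine exists_blk ?_ ?_
  · rw [det_fromBlocks_zero₂₁, h2]
    rcases hP with h | h <;> rw [h] <;> simp
  · have hcc : ∀ M : B2, (M.map cj).map cj = M := fun M => by
      ext i j; simp [Forms.HermStd.pow_q_q Nine.card]
    have h3 : Pᵀ * (dual P).map cj = 1 := by
      have := congrArg (fun M => M.map cj) h1
      rwa [Matrix.map_mul, Matrix.transpose_map, hcc, Matrix.map_one _ (map_zero cj) (map_one cj)] at this
    have h4 : (dual P)ᵀ * P.map cj = 1 := by
      have := congrArg Matrix.transpose h1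
      rwa [Matrix.transpose_mul, Matrix.transpose_transpose, Matrix.transpose_one] at this
    rw [gram, fromBlocks_transpose, fromBlocks_map, fromBlocks_multiply, fromBlocks_multiply]
    simp [h3, h4]

/-- Lifting a unipotent element. -/
theorem exists_uni {B : B2} (hB : Bᵀ + B.map cj = 0) :
    ∃ a : Cfsg.SU 4 Nine 3, blk a = fromBlocks 1 B 0 1 := by
  refine exists_blk (by rw [det_fromBlocks_zero₂₁]; simp) ?_
  rw [gram, fromBlocks_transpose, fromBlocks_map, fromBlocks_multiply, fromBlocks_multiply]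
  simp only [Matrix.transpose_zero, Matrix.transpose_one, Matrix.zero_mul, Matrix.mul_zero, add_zero, zero_add,
    Matrix.mul_one, Matrix.one_mul, Matrix.map_zero _ (map_zero cj), Matrix.map_one _ (map_zero cj) (map_one cj)]
  rw [add_comm, hB] <;> rfl

/-- Conjugation of the unipotent part by the stabilizer of the plane. -/
theorem stab_conj {a u u' : Cfsg.SU 4 Nine 3} {P Q D B B' : B2} (ha : blk a = fromBlocks P Q 0 D)
    (hu : blk u = fromBlocks 1 B 0 1) (hu' : blk u' = fromBlocks 1 B' 0 1) :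
    a * u = u' * a ↔ B' = act P B := by
  obtain ⟨hPD, -, -⟩ := stab_eqs ha
  have hDP : D * (P.map cj)ᵀ = 1 := mul_eq_one_comm.1 hPD
  constructor
  · intro h
    have h' := congrArg blk h
    rw [blk_mul, blk_mul, ha, hu, hu', fromBlocks_multiply, fromBlocks_multiply] at h'
    simp only [Matrix.one_mul, Matrix.mul_one, Matrix.zero_mul, Matrix.mul_zero, add_zero, zero_add] at h'
    have h1 := (fromBlocks_inj.1 h').2.1
    rw [add_comm (P * B) Q] at h1
    have h2 := add_left_cancel h1
    rw [act, h2, Matrix.mul_assoc, hDP, Matrix.mul_one]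
  · rintro rfl
    refine blk_inj ?_
    rw [blk_mul, blk_mul, ha, hu, hu', fromBlocks_multiply, fromBlocks_multiply, act,
      Matrix.mul_assoc (P * B) (P.map cj)ᵀ D, hPD]
    simp [add_comm]

/-- Commuting with an invertible unipotent element forces the stabilizer of the plane. -/
theorem stab_of_comm {a u u' : Cfsg.SU 4 Nine 3} {B B' : B2} (hu : blk u = fromBlocks 1 B 0 1)
    (hu' : blk u' = fromBlocks 1 B' 0 1) (hB : IsUnit B.det) (h : a * u = u' * a) :
    blk a = fromBlocks (blk a).toBlocks₁₁ (blk a).toBlocks₁₂ 0 (blk a).toBlocks₂₂ := by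
  conv_lhs => rw [← fromBlocks_toBlocks (blk a)]
  congr 1
  have h' := congrArg blk h
  rw [blk_mul, blk_mul, hu, hu', ← fromBlocks_toBlocks (blk a), fromBlocks_multiply, fromBlocks_multiply] at h'
  simp only [Matrix.one_mul, Matrix.mul_one, Matrix.zero_mul, Matrix.mul_zero, add_zero, zero_add] at h'
  have h1 : (blk a).toBlocks₂₁ * B = 0 := add_eq_right.1 (fromBlocks_inj.1 h').2.2.2
  rw [← Matrix.mul_nonsing_inv_cancel_right B (blk a).toBlocks₂₁ hB, h1, Matrix.zero_mul]

theorem matrix_facts : baseI * PsuRootModel.tM * baseM = fromBlocks 1 !![o 4, 0; 0, 0] 0 1 ∧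
    baseI * PsuRootModel.pM * baseM = fromBlocks 1 !![0, 0; 0, o 4] 0 1 ∧
    baseI * PsuRootModel.zM * baseM = fromBlocks !![-1, 0; 0, 1] 0 0 !![-1, 0; 0, 1] := by decide +kernel

end Cfsg.Agent.SuzukiElementary.PlaneU
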