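import Cfsg.Agent.Lib.SuzukiElementary.Model

/-!
The model has the properties of `Parabolic`.
-/

set_option autoImplicit false
set_option maxRecDepth 20000
set_option synthInstance.maxSize 4096

namespace Cfsg.Agent.SuzukiElementary.PlaneU

open Matrix Cfsg.Agent.MonomialMult Cfsg.Agent.SuzukiThree Cfsg.Agent.Classical.Unitary

theorem el_t : PsuRootModel.el PsuRootModel.tM PsuRootModel.t_ok = uni U_T := blk_inj (by
  rw [blk_uni]; exact matrix_facts.1)

theorem el_p : PsuRootModel.el PsuRootModel.pM PsuRootModel.p_ok = uni U_P := blk_inj (by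
  rw [blk_uni]; exact matrix_facts.2.1)

/-- The root element `t`. -/
noncomputable def tE : M := pj (uni U_T)

/-- The root element `p`. -/
noncomputable def pE : M := pj (uni U_P)

/-- The involution. -/
noncomputable def zE : M := pj (PsuRootModel.el PsuRootModel.zM PsuRootModel.z_ok)

/-- The transvection of a point. -/
noncomputable def rootE (v : Option Nine) : M := pj (uni (U_root v))

theorem pj_congr {B B' : B2} (h : U B) (h' : U B') (e : B = B') : pj (uni h) = pj (uni h') := by
  rw [uni_congr h h' e]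

theorem act_inj {P B B' : B2} (hP : P.det = 1 ∨ P.det = -1) (e : act P B = act P B') : B = B' := by
  have hP0 : IsUnit P.det := by rcases hP with h | h <;> rw [h] <;> simp
  have hD := (dual_spec hP).1
  have e1 : P * B = P * B' := by
    have := congrArg (fun N => N * dual P) e
    simpa [act, Matrix.mul_assoc, hD] using this
  rw [← Matrix.nonsing_inv_mul_cancel_left P B hP0, e1, Matrix.nonsing_inv_mul_cancel_left P B' hP0]

theorem levi_conj {P : B2} (hP : P.det = 1 ∨ P.det = -1) :
    ∃ n ∈ Subgroup.normalizer (A0 : Set M), ∀ {B : B2} (h : U B),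
      n * pj (uni h) * n⁻¹ = pj (uni (U_act (P := P) h)) := by
  obtain ⟨a, ha⟩ := exists_levi hP
  exact ⟨pj a, mem_normalizer_iff'.2 ⟨_, _, _, ha⟩, fun h => conj_uni ha h⟩

theorem of_mem_normalizer {n : M} (hn : n ∈ Subgroup.normalizer (A0 : Set M)) :
    ∃ a P Q D, n = pj a ∧ blk a = fromBlocks P Q 0 D ∧ (P.det = 1 ∨ P.det = -1) := by
  obtain ⟨a, rfl⟩ := QuotientGroup.mk'_surjective _ n
  obtain ⟨P, Q, D, ha⟩ := mem_normalizer_iff'.1 hn
  exact ⟨a, P, Q, D, rfl, ha, (stab_eqs ha).2.2⟩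

theorem fix_of_comm {a : Cfsg.SU 4 Nine 3} {P Q D B : B2} (ha : blk a = fromBlocks P Q 0 D) (h : U B)
    (e : pj a * pj (uni h) = pj (uni h) * pj a) : act P B = B := by
  refine pj_uni_inj (U_act (P := P) h) h ?_
  rw [← conj_uni ha h, e, mul_inv_cancel_right]

theorem zpow_uni {B B' : B2} (h : U B) (h' : U B') (e : pj (uni h') ∈ Subgroup.zpowers (pj (uni h))) :
    B' = 0 ∨ B' = B ∨ B' = -B := by
  obtain ⟨i, hi⟩ := e
  have hi' : pj (uni h) ^ i = pj (uni h') := hi
  have h3 : pj (uni h) ^ (3 : ℤ) = 1 := by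
    rw [show (3 : ℤ) = ((3 : ℕ) : ℤ) by norm_num, _root_.zpow_natCast, ← map_pow, uni_cube, map_one]
  rw [← Int.mul_ediv_add_emod i 3, _root_.zpow_add, _root_.zpow_mul, h3, _root_.one_zpow, one_mul] at hi'
  have hr : i % 3 = 0 ∨ i % 3 = 1 ∨ i % 3 = 2 := by omega
  rcases hr with hr | hr | hr <;> rw [hr] at hi'
  · rw [_root_.zpow_zero, ← map_one pj, ← uni_zero] at hi'
    exact Or.inl (pj_uni_inj _ _ hi').symm
  · rw [_root_.zpow_one] at hi'
    exact Or.inr (Or.inl (pj_uni_inj _ _ hi').symm)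
  · refine Or.inr (Or.inr (pj_uni_inj (U_neg h) h' ?_).symm)
    rw [← hi', show (2 : ℤ) = 3 + -1 by norm_num, _root_.zpow_add, h3, one_mul, _root_.zpow_neg_one, ← map_inv, uni_inv]

theorem zpowers_neg {B : B2} (h : U B) (h' : U (-B)) :
    Subgroup.zpowers (pj (uni h')) = Subgroup.zpowers (pj (uni h)) := by
  rw [pj_congr h' (U_neg h) rfl, ← uni_inv, map_inv, Subgroup.zpowers_inv]

theorem root_ne {v : Option Nine} : rootB v ≠ 0 := by
  intro e
  have h1 := (lev_root v).1
  rw [e] at h1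
  refine root_base.2.2.2.1.2.1 (act_inj (P := lev v) (Or.inl (lev_det v).1) ?_)
  rw [act_eq, h1]
  simp [act]

theorem root_eq {v w : Option Nine} (e : rootB v = rootB w ∨ rootB v = -rootB w) : v = w := by
  refine root_inj v w ?_
  rcases e with e | e
  · exact Or.inl ⟨by rw [e], by rw [e], by rw [e]⟩
  · exact Or.inr ⟨by rw [e]; rfl, by rw [e]; rfl, by rw [e]; rfl⟩

theorem rootE_mem {v : Option Nine} : ∃ n ∈ Subgroup.normalizer (A0 : Set M), n * tE * n⁻¹ = rootE v := by
  obtain ⟨n, hn, hc⟩ := levi_conj (P := lev v) (Or.inl (lev_det v).1)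
  exact ⟨n, hn, (hc U_T).trans (pj_congr _ _ (by rw [act_eq, (lev_root v).1]))⟩

theorem root_exists {n : M} (hn : n ∈ Subgroup.normalizer (A0 : Set M)) :
    ∃ v, Subgroup.zpowers (n * tE * n⁻¹) = Subgroup.zpowers (rootE v) := by
  obtain ⟨a, P, Q, D, rfl, ha, hP⟩ := of_mem_normalizer hn
  rw [tE, conj_uni ha U_T]
  obtain ⟨i, j, x, he⟩ := exists_sk (U_act (P := P) U_T)
  have hdet : (sk i j x).det = 0 := by
    rw [← he, act, Matrix.det_mul, Matrix.det_mul, show bT.det = 0 by decide +kernel, mul_zero, zero_mul]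
  rcases root_cases i j x hdet with ⟨rfl, rfl, rfl⟩ | ⟨v, hv | hv⟩
  · refine absurd (act_inj hP (he.trans (?_ : _ = act P 0))) root_base.2.2.2.1.2.1
    rw [show sk 0 0 (0 : Nine) = 0 by decide +kernel]; simp [act]
  · exact ⟨v, by rw [rootE, pj_congr _ (U_root v) (he.trans hv)]⟩
  · exact ⟨v, by rw [rootE, pj_congr _ (U_neg (U_root v)) (he.trans hv), zpowers_neg (U_root v)]⟩

theorem cent_of_fix {a : Cfsg.SU 4 Nine 3} {P Q D : B2} (ha : blk a = fromBlocks P Q 0 D) (h : P 0 1 = 0)
    (h' : P 1 0 = 0) (hd : P 0 0 = P 1 1) (hs : P 0 0 * P 0 0 * (P 0 0 * P 0 0) = 1) : pj a ∈ A0 := by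
  refine scalar_mem ha (s := P 0 0) ?_ hs
  ext i j
  fin_cases i <;> fin_cases j <;> simp [h, h', hd]

theorem card_normalizer : Nat.card (Subgroup.normalizer (A0 : Set M)) = 29160 := by
  classical
  set N := Subgroup.normalizer (A0 : Set M)
  set S := N.comap pj
  -- the stabilizer of the plane
  let T : Type := {p : Nine × Nine × Nine × Nine //
    p.1 * p.2.2.2 - p.2.1 * p.2.2.1 = 1 ∨ p.1 * p.2.2.2 - p.2.1 * p.2.2.1 = -1}
  let mk : T → B2 := fun p => !![p.1.1, p.1.2.1; p.1.2.2.1, p.1.2.2.2]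
  have hmk : ∀ p : T, (mk p).det = 1 ∨ (mk p).det = -1 := fun p => by
    rw [Matrix.det_fin_two]; exact p.2
  choose lv hlv using fun p : T => exists_levi (hmk p)
  let f : T × (Fin 3 × Fin 3 × Nine) → S := fun q =>
    ⟨lv q.1 * uni (sk_mem q.2.1 q.2.2.1 q.2.2.2), mem_normalizer_iff'.2
      ⟨mk q.1, mk q.1 * sk q.2.1 q.2.2.1 q.2.2.2, dual (mk q.1), by
      rw [blk_mul, blk_uni, hlv, fromBlocks_multiply]
      simp only [Matrix.mul_zero, add_zero, Matrix.zero_mul, zero_add, Matrix.mul_one]⟩⟩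
  have hblk : ∀ q, blk (f q).1 = fromBlocks (mk q.1) (mk q.1 * sk q.2.1 q.2.2.1 q.2.2.2) 0 (dual (mk q.1)) :=
    fun q => by
      show blk (lv q.1 * uni _) = _
      rw [blk_mul, blk_uni, hlv, fromBlocks_multiply]
      simp
  have hf : Function.Bijective f := by
    refine ⟨fun q q' e => ?_, fun g => ?_⟩
    · have e1 := congrArg (fun g : S => blk g.1) e
      simp only [hblk] at e1
      obtain ⟨h1, h2, -, -⟩ := fromBlocks_inj.1 e1
      have hq : q.1 = q'.1 := by
        refine Subtype.ext (Prod.ext ?_ (Prod.ext ?_ (Prod.ext ?_ ?_)))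
        exacts [congrFun (congrFun h1 0) 0, congrFun (congrFun h1 0) 1, congrFun (congrFun h1 1) 0,
          congrFun (congrFun h1 1) 1]
      have e2 : lv q.1 * uni (sk_mem q.2.1 q.2.2.1 q.2.2.2) = lv q.1 * uni (sk_mem q'.2.1 q'.2.2.1 q'.2.2.2) := by
        refine (congrArg Subtype.val e).trans ?_
        show lv q'.1 * _ = _
        rw [hq]
      have e3 := uni_inj _ _ (mul_left_cancel e2)
      obtain ⟨a1, a2, a3⟩ := sk_inj _ _ _ _ _ _ (congrFun (congrFun e3 0) 0) (congrFun (congrFun e3 1) 1)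
        (congrFun (congrFun e3 0) 1)
      exact Prod.ext hq (Prod.ext a1 (Prod.ext a2 a3))
    · obtain ⟨P, Q, D, ha⟩ := mem_normalizer_iff'.1 g.2
      obtain ⟨-, -, hP⟩ := stab_eqs ha
      let p : T := ⟨(P 0 0, P 0 1, P 1 0, P 1 1), det_entries hP⟩
      have hp : mk p = P := (eta2 P).symm
      have hb : blk ((lv p)⁻¹ * g.1) = fromBlocks 1 (P⁻¹ * Q) 0 1 := by
        have e : blk (lv p) * blk ((lv p)⁻¹ * g.1) = blk g.1 := by rw [← blk_mul, mul_inv_cancel_left]
        have hP0 : IsUnit P.det := by rcases hP with h | h <;> rw [h] <;> simp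
        obtain ⟨d1, -⟩ := dual_spec hP
        have hD : D = dual P := by
          obtain ⟨hPD, -, -⟩ := stab_eqs ha
          calc D = dual P * (P.map cj)ᵀ * D := by rw [mul_eq_one_comm.1 d1, Matrix.one_mul]
            _ = dual P := by rw [Matrix.mul_assoc, hPD, Matrix.mul_one]
        rw [hlv, hp, ha, hD, ← fromBlocks_toBlocks (blk ((lv p)⁻¹ * g.1)), fromBlocks_multiply] at e
        simp only [Matrix.zero_mul, add_zero, zero_add] at e
        obtain ⟨e1, e2, e3, e4⟩ := fromBlocks_inj.1 e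
        rw [← fromBlocks_toBlocks (blk ((lv p)⁻¹ * g.1))]
        have hdu : IsUnit (dual P).det := by rw [(dual_spec hP).2]; exact hP0
        congr 1
        · rw [← Matrix.nonsing_inv_mul_cancel_left P (blk ((lv p)⁻¹ * g.1)).toBlocks₁₁ hP0, e1,
            Matrix.nonsing_inv_mul P hP0]
        · rw [← e2, Matrix.nonsing_inv_mul_cancel_left _ _ hP0]
        · rw [← Matrix.nonsing_inv_mul_cancel_left (dual P) (blk ((lv p)⁻¹ * g.1)).toBlocks₂₁ hdu, e3,
            Matrix.mul_zero]
        · rw [← Matrix.nonsing_inv_mul_cancel_left (dual P) (blk ((lv p)⁻¹ * g.1)).toBlocks₂₂ hdu, e4,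
            Matrix.nonsing_inv_mul _ hdu]
      obtain ⟨-, hU, -⟩ := stab_eqs hb
      have hU' : U (P⁻¹ * Q) := by
        rw [Matrix.transpose_one, Matrix.one_mul, Matrix.map_one _ (map_zero cj) (map_one cj),
          Matrix.mul_one] at hU
        exact hU
      obtain ⟨i, j, x, hx⟩ := exists_sk hU'
      refine ⟨(p, i, j, x), Subtype.ext ?_⟩
      have e : (lv p)⁻¹ * g.1 = uni (sk_mem i j x) := blk_inj (by rw [hb, blk_uni, hx])
      show lv p * uni _ = g.1
      rw [← e, mul_inv_cancel_left]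
  have hS : Nat.card S = 116640 := by
    rw [← Nat.card_eq_of_bijective f hf, Nat.card_prod, Nat.card_prod, Nat.card_prod,
      Nat.card_eq_fintype_card (α := Nine), Nine.card, Nat.card_eq_fintype_card (α := T)]
    show Fintype.card {p : Nine × Nine × Nine × Nine // _} * _ = _
    rw [levi_count]
    simp
  have hi := N.index_comap_of_surjective (f := pj) (QuotientGroup.mk'_surjective _)
  have h1 := S.card_mul_index
  have h2 := N.card_mul_index
  have h3 := Subgroup.card_eq_card_quotient_mul_card_subgroup (Subgroup.center (Cfsg.SU 4 Nine 3))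
  rw [Classical.Unitary.natCard_center Nine.card (by norm_num), show Nat.gcd 4 (3 + 1) = 4 from rfl] at h3
  rw [hS, show S.index = N.index from hi, h3, show Nat.card (Cfsg.SU 4 Nine 3 ⧸ _) = Nat.card M from rfl,
    ← h2] at h1
  have hpos : 0 < N.index := Nat.pos_of_ne_zero N.index_ne_zero_of_finite
  have := Nat.eq_of_mul_eq_mul_right hpos (show 116640 * N.index = Nat.card N * 4 * N.index by rw [h1]; ring)
  omega

/-- The model. -/
theorem parabolic : Parabolic zE tE pE A0 where
  card_A := card_A0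
  cube := by
    rintro _ ⟨B, h, rfl⟩
    rw [← map_pow, uni_cube, map_one]
  comm := by
    rintro _ ⟨B, h, rfl⟩ _ ⟨B', h', rfl⟩
    rw [← map_mul, ← map_mul, uni_mul, uni_mul]
    exact pj_congr _ _ (add_comm _ _)
  cent := by
    refine le_antisymm (fun x hx => ?_) fun x hx => Subgroup.mem_centralizer_iff.2 fun y hy => ?_
    · rw [Subgroup.mem_centralizer_iff] at hx
      obtain ⟨a, rfl⟩ := QuotientGroup.mk'_surjective _ x
      have hc : ∀ {B : B2} (h : U B), pj a * pj (uni h) = pj (uni h) * pj a := fun h => (hx _ ⟨_, h, rfl⟩).symm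
      obtain ⟨P, Q, D, ha⟩ := inP_of_conj (a := a) (U_add U_T U_P) (U_add U_T U_P) det_TP.1
        (by rw [hc, mul_inv_cancel_right])
      obtain ⟨-, -, hP⟩ := stab_eqs ha
      have hf : ∀ {B : B2}, U B → act' !![P 0 0, P 0 1; P 1 0, P 1 1] B = B := fun h => by
        rw [← act_eq, ← eta2]; exact fix_of_comm ha h (hc h)
      obtain ⟨h1, h2, h3, -, h5, -⟩ := fix_diag _ _ _ _ (det_entries hP) (hf U_T) (hf U_P)
      exact cent_of_fix ha h1 h2 (h5 (hf (sk_mem 0 0 1))) h3
    · obtain ⟨B, h, rfl⟩ := hy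
      obtain ⟨B', h', rfl⟩ := hx
      rw [← map_mul, ← map_mul, uni_mul, uni_mul]
      exact pj_congr _ _ (add_comm _ _)
  t_mem := ⟨_, U_T, rfl⟩
  p_mem := ⟨_, U_P, rfl⟩
  t_ne := fun e => root_base.2.2.2.1.2.1 (pj_uni_inj U_T U_zero (by rw [uni_zero, map_one]; exact e))
  p_ne := fun e => root_base.2.2.2.1.2.2 (pj_uni_inj U_P U_zero (by rw [uni_zero, map_one]; exact e))
  tp_ne := fun e => by
    rcases zpow_uni U_T U_P e with h | h | h
    · exact root_base.2.2.2.1.2.2 h
    · exact root_base.2.2.2.2.1 h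
    · exact root_base.2.2.2.2.2 h
  t_zc := by
    rw [tE, zE, ← el_t, ← map_mul, ← map_mul]
    exact congrArg pj (Subtype.ext (Subtype.ext PsuRootModel.relations.2.2.2.2.2.1))
  p_zc := by
    rw [pE, zE, ← el_p, ← map_mul, ← map_mul]
    exact congrArg pj (Subtype.ext (Subtype.ext PsuRootModel.relations.2.2.2.2.2.2.2.2.1))
  cent_tp := by
    intro x h3 ht hp
    obtain ⟨a, rfl⟩ := QuotientGroup.mk'_surjective _ x
    obtain ⟨P, Q, D, ha⟩ := inP_of_conj (a := a) (U_add U_T U_P) (U_add U_T U_P) det_TP.1 (by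
      rw [mul_inv_eq_iff_eq_mul, ← uni_mul U_T U_P, map_mul]
      exact ((show Commute (pj a) (pj (uni U_T)) from ht).mul_right
        (show Commute (pj a) (pj (uni U_P)) from hp)).eq)
    obtain ⟨-, -, hP⟩ := stab_eqs ha
    have hf : ∀ {B : B2} (h : U B), pj a * pj (uni h) = pj (uni h) * pj a →
        act' !![P 0 0, P 0 1; P 1 0, P 1 1] B = B := fun h e => by
      rw [← act_eq, ← eta2]; exact fix_of_comm ha h e
    obtain ⟨h1, h2, h3', -, -, h6⟩ := fix_diag _ _ _ _ (det_entries hP) (hf U_T ht) (hf U_P hp)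
    have hc : a ^ 3 ∈ Subgroup.center (Cfsg.SU 4 Nine 3) := (QuotientGroup.eq_one_iff _).1 (by
      rw [← QuotientGroup.mk'_apply, map_pow]; exact h3)
    obtain ⟨s, hs, -⟩ := center_blk hc
    rw [show a ^ 3 = a * a * a by simp [pow_succ], blk_mul, blk_mul, ha, fromBlocks_multiply,
      fromBlocks_multiply, ← fromBlocks_one, fromBlocks_smul] at hs
    simp only [Matrix.mul_zero, add_zero, Matrix.zero_mul] at hs
    have e := (fromBlocks_inj.1 hs).1
    have e0 := congrFun (congrFun e 0) 0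
    have e1 := congrFun (congrFun e 1) 1
    simp [Matrix.mul_apply, Fin.sum_univ_two, h1, h2] at e0 e1
    exact cent_of_fix ha h1 h2 (h6 s e0 e1) h3'
  card_N := card_normalizer
  diag := by
    rintro _ ⟨B, h, rfl⟩
    obtain ⟨i, j, x, rfl⟩ := exists_sk h
    obtain ⟨⟨v, w, k⟩, i', j', e⟩ := diagonalise i j x
    obtain ⟨n, hn, hc⟩ := levi_conj (P := if k = 0 then lev v * lev w else lev2 v * lev w) (by
      split <;> rw [Matrix.det_mul] <;> simp [(lev_det v).1, (lev_det v).2, (lev_det w).1])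
    refine ⟨n, hn, ?_⟩
    rw [hc h, pj_congr _ (sk_mem i' j' 0) (by rw [act_eq, e]),
      pj_congr (sk_mem i' j' 0) (U_add (sk_mem i' 0 0) (sk_mem 0 j' 0))
        ((by decide +kernel : ∀ i j : Fin 3, sk i j 0 = sk i 0 0 + sk 0 j 0) i' j'), ← uni_mul (sk_mem i' 0 0) (sk_mem 0 j' 0), map_mul]
    have hpow : ∀ i : Fin 3, pj (uni (sk_mem i 0 0)) ∈ Subgroup.closure {tE, pE} ∧
        pj (uni (sk_mem 0 i 0)) ∈ Subgroup.closure {tE, pE} := by
      intro i
      have ht : tE ∈ Subgroup.closure {tE, pE} := Subgroup.subset_closure (Or.inl rfl)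
      have hp : pE ∈ Subgroup.closure {tE, pE} := Subgroup.subset_closure (Or.inr rfl)
      have z0 : pj (uni (sk_mem 0 0 0)) = 1 := by
        rw [pj_congr (sk_mem 0 0 0) U_zero (by decide +kernel), uni_zero, map_one]
      fin_cases i
      · exact ⟨by simp [z0, one_mem], by simp [z0, one_mem]⟩
      · refine ⟨?_, ?_⟩
        · show pj (uni (sk_mem 1 0 0)) ∈ _
          rw [pj_congr (sk_mem 1 0 0) U_T (by decide +kernel)]; exact ht
        · show pj (uni (sk_mem 0 1 0)) ∈ _
          rw [pj_congr (sk_mem 0 1 0) U_P (by decide +kernel)]; exact hp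
      · refine ⟨?_, ?_⟩
        · show pj (uni (sk_mem 2 0 0)) ∈ _
          rw [pj_congr (sk_mem 2 0 0) (U_add U_T U_T) (by decide +kernel), ← uni_mul U_T U_T, map_mul]
          exact mul_mem ht ht
        · show pj (uni (sk_mem 0 2 0)) ∈ _
          rw [pj_congr (sk_mem 0 2 0) (U_add U_P U_P) (by decide +kernel), ← uni_mul U_P U_P, map_mul]
          exact mul_mem hp hp
    exact mul_mem (hpow i').1 (hpow j').2
  roots := by
    let f : Option Nine → {L : Subgroup M // ∃ n ∈ Subgroup.normalizer (A0 : Set M),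
        L = Subgroup.zpowers (n * tE * n⁻¹)} := fun v => ⟨Subgroup.zpowers (rootE v), by
      obtain ⟨n, hn, e⟩ := rootE_mem (v := v)
      exact ⟨n, hn, by rw [e]⟩⟩
    have hf : Function.Bijective f := by
      refine ⟨fun v w e => ?_, ?_⟩
      · have e' : rootE v ∈ Subgroup.zpowers (rootE w) := by
          rw [← show Subgroup.zpowers (rootE v) = Subgroup.zpowers (rootE w) from congrArg Subtype.val e]
          exact Subgroup.mem_zpowers _
        rcases zpow_uni (U_root w) (U_root v) e' with h | h | h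
        · exact absurd h root_ne
        · exact root_eq (Or.inl h)
        · exact root_eq (Or.inr h)
      · rintro ⟨L, n, hn, rfl⟩
        obtain ⟨v, hv⟩ := root_exists hn
        exact ⟨v, Subtype.ext hv.symm⟩
    rw [← Nat.card_eq_of_bijective f hf, Nat.card_eq_fintype_card, Fintype.card_option, Nine.card]
    norm_num
  p_root := by
    obtain ⟨n, hn, e⟩ := rootE_mem (v := none)
    exact ⟨n, hn, e.trans (pj_congr _ _ root_base.2.1)⟩
  two_trans := by
    intro n hn hne
    obtain ⟨v, hv⟩ := root_exists hn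
    have hv0 : v ≠ some 0 := by
      rintro rfl
      apply hne
      have h : n * tE * n⁻¹ ∈ Subgroup.zpowers (rootE (some 0)) := hv ▸ Subgroup.mem_zpowers _
      rwa [rootE, pj_congr _ U_T root_base.1] at h
    obtain ⟨hfix, w, hw, hm2⟩ := (lev_root v).2 hv0
    obtain ⟨m, hm, hc⟩ := levi_conj (P := lev2 v) (Or.inl (lev_det v).2)
    refine ⟨m, hm, (hc U_T).trans (pj_congr _ _ (by rw [act_eq, hfix])), ?_⟩
    have hmem : m * rootE v * m⁻¹ ∈ Subgroup.zpowers pE := by
      rw [rootE, hc]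
      rcases hw with rfl | rfl
      · rw [pj_congr _ U_P (by rw [act_eq, hm2])]; exact Subgroup.mem_zpowers _
      · rw [pj_congr _ (U_neg U_P) (by rw [act_eq, hm2]), ← uni_inv U_P, map_inv]
        exact inv_mem (Subgroup.mem_zpowers _)
    have h : n * tE * n⁻¹ ∈ Subgroup.zpowers (rootE v) := hv ▸ Subgroup.mem_zpowers _
    obtain ⟨i, hi⟩ := h
    rw [← hi, show m * (rootE v ^ i) * m⁻¹ = (m * rootE v * m⁻¹) ^ i by rw [← conj_zpow]]
    exact Subgroup.zpow_mem _ hmem i
  no_sqrt := by
    intro j hj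
    obtain ⟨a, rfl⟩ := QuotientGroup.mk'_surjective _ j
    have key : ∀ {B : B2} (h : U B) (e : Fin 2), B = (if e = 0 then bT + bP else bT + -bP) →
        pj a * pj (uni h) = pj (uni h) * pj a → False := by
      intro B h e hB hc
      obtain ⟨P, Q, D, ha⟩ := inP_of_conj h h (by
        rw [hB]; fin_cases e <;> simp only [Fin.isValue] <;> first | exact det_TP.1 | exact det_TP.2)
        (by rw [hc, mul_inv_cancel_right])
      obtain ⟨-, -, hP⟩ := stab_eqs ha
      have hf : act' !![P 0 0, P 0 1; P 1 0, P 1 1] B = B := by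
        rw [← act_eq, ← eta2]; exact fix_of_comm ha h hc
      rw [hB] at hf
      have hzc : (a * a)⁻¹ * PsuRootModel.el PsuRootModel.zM PsuRootModel.z_ok ∈
          Subgroup.center (Cfsg.SU 4 Nine 3) := by
        refine QuotientGroup.eq.1 ?_
        rw [← QuotientGroup.mk'_apply, map_mul]; exact hj
      obtain ⟨s, hs, -⟩ := center_blk hzc
      have hb : blk (PsuRootModel.el PsuRootModel.zM PsuRootModel.z_ok) = blk (a * a) * (s • 1) := by
        rw [← hs, ← blk_mul, mul_inv_cancel_left]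
      rw [blk_mul, ha, fromBlocks_multiply, Matrix.mul_smul, Matrix.mul_one, fromBlocks_smul] at hb
      simp only [Matrix.mul_zero, add_zero, Matrix.zero_mul] at hb
      have e1 := (fromBlocks_inj.1 (matrix_facts.2.2.symm.trans hb)).1
      have hs0 : s ≠ 0 := by
        intro h0
        have := congrFun (congrFun e1 1) 1
        simp [h0] at this
      have e00 := congrFun (congrFun e1 0) 0
      have e11 := congrFun (congrFun e1 1) 1
      have e01 := congrFun (congrFun e1 0) 1
      have e10 := congrFun (congrFun e1 1) 0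
      simp only [Matrix.smul_apply, Matrix.mul_apply, Fin.sum_univ_two, smul_eq_mul] at e00 e11 e01 e10
      simp at e00 e11 e01 e10
      refine no_root _ _ _ _ (det_entries hP) e hf ?_ ?_ ?_
      · refine mul_left_cancel₀ hs0 ?_
        linear_combination -e00 - e11
      · exact e01.resolve_left hs0
      · exact e10.resolve_left hs0
    refine ⟨fun hc => key (U_add U_T U_P) 0 (by simp) ?_, fun hc => key (U_add U_T (U_neg U_P)) 1 (by simp) ?_⟩
    · rw [← uni_mul U_T U_P, map_mul]; exact hc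
    · rw [← uni_mul U_T (U_neg U_P), map_mul, ← uni_inv, map_inv]; exact hc
  faithful := by
    intro n hn hfix
    obtain ⟨a, P, Q, D, rfl, ha, hP⟩ := of_mem_normalizer hn
    have hf : ∀ v, act' !![P 0 0, P 0 1; P 1 0, P 1 1] (rootB v) = rootB v ∨
        act' !![P 0 0, P 0 1; P 1 0, P 1 1] (rootB v) = -rootB v := by
      intro v
      rw [← act_eq, ← eta2]
      obtain ⟨m, hm, e⟩ := rootE_mem (v := v)
      have h := hfix m hm
      rw [e, rootE, conj_uni ha (U_root v)] at h
      rcases zpow_uni (U_root v) (U_act (U_root v)) h with h' | h' | h'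
      · exact absurd (act_inj hP (h'.trans (by simp [act] : (0 : B2) = act P 0))) root_ne
      · exact Or.inl h'
      · exact Or.inr h'
    have hT := hf (some 0)
    have hPP := hf none
    rw [root_base.1] at hT
    rw [root_base.2.1] at hPP
    obtain ⟨h1, h2, h3, h4⟩ := faithful _ _ _ _ (det_entries hP) hT hPP (hf (some 1)) (hf (some (o 3)))
    exact cent_of_fix ha h1 h2 h3 h4

end Cfsg.Agent.SuzukiElementary.PlaneU
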