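import Cfsg.Agent.Lib.SuzukiElementary.Action
import Cfsg.Agent.Lib.SuzukiElementary.ModelProof
import Cfsg.Agent.S5390
import Cfsg.Agent.S5391

/-!
The setup exists, and the resulting elementary abelian group.
-/

set_option autoImplicit false
set_option maxRecDepth 8000
set_option synthInstance.maxSize 4096

namespace Cfsg.Agent.SuzukiElementary

open Subgroup Cfsg.Agent.OctadInv.Orbits Cfsg.Agent.SuzukiType Cfsg.Agent.SuzukiThree Cfsg.Agent.MonomialMult

theorem zE_two : orderOf PlaneU.zE = 2 := by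
  refine orderOf_eq_prime ?_ fun e => ?_
  · rw [pow_two, PlaneU.zE, ← map_mul]
    have h : PsuRootModel.el PsuRootModel.zM PsuRootModel.z_ok * PsuRootModel.el PsuRootModel.zM PsuRootModel.z_ok = 1 :=
      Subtype.ext (Subtype.ext PsuRootModel.relations.1)
    rw [h, map_one]
  · exact (PlaneU.parabolic.no_sqrt 1 (by rw [e, mul_one])).1 (by rw [one_mul, mul_one])

universe u

variable {G : Type u} [Group G] [Finite G] {Q Q' : Subgroup G} {z a y : G}

theorem zpowers_eq_of_mem {H : Type*} [Group H] [Finite H] {u v : H} (ho : orderOf u = orderOf v)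
    (h : u ∈ zpowers v) : zpowers u = zpowers v :=
  eq_of_le_of_card_ge (zpowers_le.2 h) (by rw [Nat.card_zpowers, Nat.card_zpowers, ho])

theorem setup_of_equiv (D : Su Q Q' z a y) {X : Type*} [Group X] [Finite X] (T : Quot y X)
    (f : PlaneU.M ≃* X) (hconj : ∀ u v : X, orderOf u = 2 → orderOf v = 2 → IsConj u v) :
    Nonempty (Setup D X) := by
  classical
  haveI : Fact (Nat.Prime 3) := ⟨Nat.prime_three⟩
  obtain ⟨g, hg⟩ := isConj_iff.1 (hconj (f PlaneU.zE) _ (by rw [MulEquiv.orderOf_eq, zE_two]) (D.zb_two T))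
  set zb := T.φ D.zw with hzb
  have hpar := PlaneU.parabolic.map (f.trans (MulAut.conj g))
  rw [show (f.trans (MulAut.conj g)) PlaneU.zE = zb from hg] at hpar
  generalize (f.trans (MulAut.conj g)) PlaneU.tE = t0 at hpar
  generalize (f.trans (MulAut.conj g)) PlaneU.pE = p0 at hpar
  generalize (PlaneU.A0.map (f.trans (MulAut.conj g)).toMonoidHom) = A1 at hpar
  obtain ⟨P⟩ := D.exists_parts
  obtain ⟨π, hπ⟩ := D.exists_proj T
  set b2 : X := T.φ ⟨P.a2, mem_centralizer_singleton_iff.2 P.a2y⟩ with hb2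
  set b3 : X := T.φ ⟨P.a3, mem_centralizer_singleton_iff.2 P.a3y⟩ with hb3
  have hW : ∀ {u : G} (hu : u * y = y * u), u * z = z * u →
      T.φ ⟨u, mem_centralizer_singleton_iff.2 hu⟩ * zb = zb * T.φ ⟨u, mem_centralizer_singleton_iff.2 hu⟩ :=
    fun hu huz => by rw [hzb, ← map_mul, ← map_mul]; exact congrArg T.φ (Subtype.ext huz)
  have hker : ∀ {w : ↥(centralizer ({y} : Set G))}, T.φ w = 1 → ∃ i : ℕ, (w : G) = y ^ i :=
    fun {w} hw => by
    obtain ⟨i, hi⟩ := mem_powers_iff_mem_zpowers.2 ((T.ker w).1 hw)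
    exact ⟨i, hi.symm⟩
  -- the images of the rotations
  have hne : b2 ≠ 1 ∧ b3 ≠ 1 ∧ b3 ∉ zpowers b2 := by
    have hy : ∀ (i : ℕ) (v : SuzukiType.V), SuzukiThree.InX v → act (D.S.act' (y ^ i)) v = v := by
      intro i v hv
      rw [D.act'_pow D.yz, D.act_eq_o1, SuzukiThree.act_pow, iterate_congr (fun w => (o_act w).1)]
      exact Function.iterate_fixed (L_fix.2.1 v hv) _
    have hu1 : SuzukiThree.InX u1 ∧ SuzukiThree.InX u3 := ⟨planes.2.2.2.2.2.2.2.2.2.2.1,
      planes.2.2.2.2.2.2.2.2.2.2.2.2.1⟩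
    refine ⟨fun e => ?_, fun e => ?_, fun e => ?_⟩
    · obtain ⟨i, hi⟩ := hker e
      have h := hy i u1 hu1.1
      rw [← hi] at h
      change act (D.S.act' P.a2) u1 = u1 at h
      rw [P.act2, (o_act _).2.1] at h
      revert h; decide
    · obtain ⟨i, hi⟩ := hker e
      have h := hy i u3 hu1.2
      rw [← hi] at h
      change act (D.S.act' P.a3) u3 = u3 at h
      rw [P.act3, (o_act _).2.2.1] at h
      revert h; decide
    · obtain ⟨j, hj⟩ := mem_powers_iff_mem_zpowers.2 e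
      have he : T.φ (⟨P.a3, mem_centralizer_singleton_iff.2 P.a3y⟩⁻¹ *
          ⟨P.a2, mem_centralizer_singleton_iff.2 P.a2y⟩ ^ j) = 1 := by
        rw [map_mul, map_inv, map_pow, inv_mul_eq_one]; exact hj.symm
      obtain ⟨i, hi⟩ := hker he
      have h := hy i u3 hu1.2
      rw [← hi] at h
      change act (D.S.act' (P.a3⁻¹ * P.a2 ^ j)) u3 = u3 at h
      rw [D.S.act'_mul (SuzukiType.inv_z P.a3z) ((show Commute P.a2 z from P.a2z).pow_left j).eq,
        D.S.act'_inv P.a3z, D.act'_pow P.a2z, P.act2, P.act3, act_mul, SuzukiThree.act_pow,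
        iterate_congr (fun w => (o_act w).2.1), Function.iterate_fixed plane_facts.2.2.2.2.1 j] at h
      have h' := congrArg (act o3) h
      rw [← act_mul, mul_inv_cancel, act_one, (o_act _).2.2.1] at h'
      revert h'; decide
  have hord2 : orderOf b2 = 3 := orderOf_eq_prime (by
    rw [hb2, ← map_pow]; exact (congrArg T.φ (Subtype.ext P.a2p)).trans (map_one _)) hne.1
  have hord3 : orderOf b3 = 3 := orderOf_eq_prime (by
    rw [hb3, ← map_pow]; exact (congrArg T.φ (Subtype.ext P.a3p)).trans (map_one _)) hne.2.1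
  have hc23 : b2 * b3 = b3 * b2 := by
    rw [hb2, hb3, ← map_mul, ← map_mul]; exact congrArg T.φ (Subtype.ext P.a23)
  -- Sylow subgroups of the centralizer
  set H := centralizer ({zb} : Set X)
  set U1 := closure ({t0, p0} : Set X)
  set U2 := closure ({b2, b3} : Set X)
  have hU1 : U1 ≤ H := (closure_le _).2 (by
    rintro x (e | e) <;> rw [e]
    exacts [mem_centralizer_singleton_iff.2 hpar.t_zc, mem_centralizer_singleton_iff.2 hpar.p_zc])
  have hU2 : U2 ≤ H := (closure_le _).2 (by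
    rintro x (e | e) <;> rw [e]
    exacts [mem_centralizer_singleton_iff.2 (hW P.a2y P.a2z), mem_centralizer_singleton_iff.2 (hW P.a3y P.a3z)])
  have hf : (1152 : ℕ).factorization 3 = 2 := by
    rw [show (1152 : ℕ) = 128 * 3 ^ 2 by norm_num, Nat.factorization_mul (by norm_num) (by norm_num),
      Finsupp.add_apply, Nat.factorization_pow, Finsupp.smul_apply,
      Nat.factorization_eq_zero_of_not_dvd (by norm_num : ¬ 3 ∣ 128), Nat.Prime.factorization_self Nat.prime_three]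
    rfl
  have hH : Nat.card ↥H = 1152 := Parts.card_image D π
  have hc : ∀ {U : Subgroup X}, U ≤ H → Nat.card U = 9 →
      Nat.card ↥(U.subgroupOf H) = 3 ^ (Nat.card H).factorization 3 := fun {U} h h9 => by
    rw [Nat.card_congr (subgroupOfEquivOfLe h).toEquiv, h9, hH, hf]; norm_num
  obtain ⟨h, hh⟩ := MulAction.exists_smul_eq H
    (Sylow.ofCard _ (hc hU1 (card_pair hpar.ord_t.1 hpar.ord_t.2 (hpar.comm _ hpar.t_mem _ hpar.p_mem) hpar.tp_ne)))
    (Sylow.ofCard _ (hc hU2 (card_pair hord2 hord3 hc23 hne.2.2)))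
  have h1 : (U1.subgroupOf H).map (MulAut.conj h).toMonoidHom = U2.subgroupOf H :=
    congrArg (fun P : Sylow 3 H => (P : Subgroup H)) hh
  have h2 : U1.map (MulAut.conj (h : X)).toMonoidHom = U2 := by
    have h3 := congrArg (Subgroup.map H.subtype) h1
    rw [Subgroup.map_map, map_subgroupOf_eq_of_le hU2] at h3
    rw [← h3]
    conv_lhs => rw [← map_subgroupOf_eq_of_le hU1]
    rw [Subgroup.map_map]
    rfl
  have hpar' := hpar.map (MulAut.conj (h : X))
  rw [show MulAut.conj (h : X) zb = zb by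
    show (h : X) * zb * (h : X)⁻¹ = zb
    rw [mem_centralizer_singleton_iff.1 h.2, mul_inv_cancel_right]] at hpar'
  have hcl : closure ({MulAut.conj (h : X) t0, MulAut.conj (h : X) p0} : Set X) = U2 := by
    rw [← h2, MonoidHom.map_closure, Set.image_pair]; rfl
  generalize MulAut.conj (h : X) t0 = t at hpar' hcl
  generalize MulAut.conj (h : X) p0 = p at hpar' hcl
  generalize A1.map (MulAut.conj (h : X)).toMonoidHom = Ab at hpar'
  -- identify the root elements
  obtain ⟨r3c, hr3a, hr3⟩ : ∃ j : X, j * b2 = b2 * j ∧ j * j = zb := by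
    refine ⟨T.φ ⟨P.r3, P.gens_mem.2.1.2⟩, ?_, ?_⟩
    · rw [hb2, ← map_mul, ← map_mul]; exact congrArg T.φ (Subtype.ext P.cross.1.symm)
    · rw [hzb, ← map_mul]; exact congrArg T.φ (Subtype.ext P.r_sq.2)
  obtain ⟨r2c, hr2a, hr2⟩ : ∃ j : X, j * b3 = b3 * j ∧ j * j = zb := by
    refine ⟨T.φ ⟨P.r2, P.gens_mem.1.2⟩, ?_, ?_⟩
    · rw [hb3, ← map_mul, ← map_mul]; exact congrArg T.φ (Subtype.ext P.cross.2.2.1.symm)
    · rw [hzb, ← map_mul]; exact congrArg T.φ (Subtype.ext P.r_sq.1)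
  have c2 := hpar'.cases_of_sqrt (u := b2) (hcl.symm ▸ subset_closure (Or.inl rfl)) hne.1 hr3 hr3a
  have c3 := hpar'.cases_of_sqrt (u := b3) (hcl.symm ▸ subset_closure (Or.inr rfl)) hne.2.1 hr2 hr2a
  have hdist : zpowers b3 ≠ zpowers b2 := fun e => hne.2.2 (e ▸ mem_zpowers b3)
  -- lifts
  have lift : ∀ (u : G) (hu : u * y = y * u), u ^ 3 = 1 → ∀ t' : X, t' ≠ 1 → t' ^ 3 = 1 →
      zpowers (T.φ ⟨u, mem_centralizer_singleton_iff.2 hu⟩) = zpowers t' → orderOf u = 3 →
      ∃ w, zpowers w = zpowers u ∧ ∀ hw : w ∈ centralizer ({y} : Set G), T.φ ⟨w, hw⟩ = t' := by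
    intro u hu hu3 t' ht1 ht3 e ho
    have he : t' ∈ zpowers (T.φ ⟨u, mem_centralizer_singleton_iff.2 hu⟩) := e.symm ▸ mem_zpowers t'
    rcases zpow_cases (by rw [← map_pow]; exact (congrArg T.φ (Subtype.ext hu3)).trans (map_one _)) he with
      h | h | h
    · exact absurd h ht1
    · exact ⟨u, rfl, fun _ => h.symm⟩
    · refine ⟨u⁻¹, zpowers_inv, fun hw => ?_⟩
      rw [h, ← map_inv]
      rfl
  have o2 : orderOf P.a2 = 3 := orderOf_eq_prime P.a2p (Tri.a2_ne P).1
  have o3 : orderOf P.a3 = 3 := orderOf_eq_prime P.a3p (Tri.a2_ne P).2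
  have hm := Tri.mem_gens P
  rcases c2 with c2 | c2 <;> rcases c3 with c3 | c3
  · exact absurd (c3.trans c2.symm) hdist
  · obtain ⟨b, hb, hbt⟩ := lift P.a2 P.a2y P.a2p t hpar'.t_ne (hpar'.cube t hpar'.t_mem) c2 o2
    obtain ⟨c, hc, hct⟩ := lift P.a3 P.a3y P.a3p p hpar'.p_ne (hpar'.cube p hpar'.p_mem) c3 o3
    have hbm : b ∈ tri D P := zpowers_le.2 hm.2.1 (hb ▸ mem_zpowers b)
    have hcm : c ∈ tri D P := zpowers_le.2 hm.2.2 (hc ▸ mem_zpowers c)
    exact ⟨{ T := T, P := P, b := b, c := c, b_mem := hbm, c_mem := hcm, span := Or.inl ⟨hb, hc⟩, Ab := Ab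
             par := by rw [hbt, hct]; exact hpar'
             inv_conj := hconj }⟩
  · obtain ⟨b, hb, hbt⟩ := lift P.a3 P.a3y P.a3p t hpar'.t_ne (hpar'.cube t hpar'.t_mem) c3 o3
    obtain ⟨c, hc, hct⟩ := lift P.a2 P.a2y P.a2p p hpar'.p_ne (hpar'.cube p hpar'.p_mem) c2 o2
    have hbm : b ∈ tri D P := zpowers_le.2 hm.2.2 (hb ▸ mem_zpowers b)
    have hcm : c ∈ tri D P := zpowers_le.2 hm.2.1 (hc ▸ mem_zpowers c)
    exact ⟨{ T := T, P := P, b := b, c := c, b_mem := hbm, c_mem := hcm, span := Or.inr ⟨hb, hc⟩, Ab := Ab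
             par := by rw [hbt, hct]; exact hpar'
             inv_conj := hconj }⟩
  · exact absurd (c3.trans c2.symm) hdist

/-- The local statement. -/
theorem exists_group (D : Su Q Q' z a y) :
    ∃ A : Subgroup G, A ≤ normalizer (zpowers y : Set G) ∧ 3 ^ 7 ∣ Nat.card ↥(normalizer (zpowers y : Set G)) ∧
      Cfsg.IsElementaryAbelian 3 A ∧ Nat.card A = 243 ∧ centralizer (A : Set G) = A ∧
      ∃ _ : (A.subgroupOf (normalizer (A : Set G))).Normal,
        Cfsg.Spor.IsoM11 (↥(normalizer (A : Set G)) ⧸ A.subgroupOf (normalizer (A : Set G))) := by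
  classical
  let W := centralizer ({y} : Set G)
  haveI hn : ((zpowers y).subgroupOf W).Normal := ⟨fun n hn g => by
    have hc : Commute (g : G) (n : G) := by
      obtain ⟨i, hi⟩ := mem_zpowers_iff.1 (mem_subgroupOf.1 hn)
      rw [← hi]
      exact (show Commute (g : G) y from mem_centralizer_singleton_iff.1 g.2).zpow_right i
    rw [show g * n * g⁻¹ = n from Subtype.ext (by
      show (g : G) * n * (g : G)⁻¹ = n
      rw [hc.eq, mul_inv_cancel_right])]
    exact hn⟩
  let T : Quot y (↥W ⧸ (zpowers y).subgroupOf W) :=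
    { φ := QuotientGroup.mk' _
      surj := QuotientGroup.mk'_surjective _
      ker := fun x => (QuotientGroup.eq_one_iff x).trans mem_subgroupOf }
  obtain ⟨hzb, H₁, H₂, Qs, h1, h2, h3, ⟨e1⟩, ⟨e2⟩, h6, hn', h8, h9, h10, h11, h12⟩ := D.quot_uType T
  obtain ⟨f⟩ := Cfsg.Agent.S5390.result _ hzb H₁ H₂ h1 h2 h3 e1 e2 h6 Qs h8 h9 h10 h11 h12 Nine Nine.card
  obtain ⟨S⟩ := setup_of_equiv D T f.symm
    (Cfsg.Agent.S5391.result _ hzb H₁ H₂ h1 h2 h3 e1 e2 h6 Qs h8 h9 h10 h11 h12).2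
  have hWN : W ≤ normalizer (zpowers y : Set G) := fun g hg => by
    refine mem_normalizer_fintype fun x hx => ?_
    obtain ⟨i, rfl⟩ := mem_zpowers_iff.1 hx
    refine mem_zpowers_iff.2 ⟨i, ?_⟩
    have hc : Commute g (y ^ i) :=
      (show Commute g y from mem_centralizer_singleton_iff.1 hg).zpow_right i
    rw [hc.eq, mul_inv_cancel_right]
  refine ⟨S.A, S.A_le.trans hWN, ?_, ⟨⟨⟨fun u v => Subtype.ext (S.A_comm_cube.1 _ u.2 _ v.2)⟩⟩, S.A_comm_cube.2⟩,
    S.card_A, S.centralizer_A, S.A_normal, ?_⟩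
  · refine dvd_trans ?_ (card_dvd_of_le (inf_le_left.trans hWN :
      Cy y ⊓ normalizer (S.A : Set G) ≤ normalizer (zpowers y : Set G)))
    rw [S.card_cent_normalizer]
    norm_num
  · haveI := S.A_normal
    exact isoM11_of_isM11 S.quotient_m11

end Cfsg.Agent.SuzukiElementary
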