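import Mathlib

/-!
What is used about the parabolic subgroup `3⁴:A₆` of the unitary group.
-/

set_option autoImplicit false

namespace Cfsg.Agent.SuzukiElementary

open Subgroup

/-- The facts; `zc` is an involution, `t` and `p` are commuting root elements centralized by it. -/
structure Parabolic {M : Type*} [Group M] (zc t p : M) (A : Subgroup M) : Prop where
  card_A : Nat.card A = 81
  cube : ∀ x ∈ A, x ^ 3 = 1
  comm : ∀ x ∈ A, ∀ x' ∈ A, x * x' = x' * x
  cent : centralizer (A : Set M) = A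
  t_mem : t ∈ A
  p_mem : p ∈ A
  t_ne : t ≠ 1
  p_ne : p ≠ 1
  tp_ne : p ∉ zpowers t
  t_zc : t * zc = zc * t
  p_zc : p * zc = zc * p
  /-- Elements of order three commuting with both root elements. -/
  cent_tp : ∀ x : M, x ^ 3 = 1 → x * t = t * x → x * p = p * x → x ∈ A
  card_N : Nat.card (normalizer (A : Set M)) = 29160
  /-- Every element is conjugate into `⟨t, p⟩`. -/
  diag : ∀ r ∈ A, ∃ n ∈ normalizer (A : Set M), n * r * n⁻¹ ∈ closure ({t, p} : Set M)
  roots : Nat.card {L : Subgroup M // ∃ n ∈ normalizer (A : Set M), L = zpowers (n * t * n⁻¹)} = 10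
  p_root : ∃ n ∈ normalizer (A : Set M), n * t * n⁻¹ = p
  /-- Two different root subgroups. -/
  two_trans : ∀ n ∈ normalizer (A : Set M), n * t * n⁻¹ ∉ zpowers t → ∃ m ∈ normalizer (A : Set M),
    m * t * m⁻¹ = t ∧ m * (n * t * n⁻¹) * m⁻¹ ∈ zpowers p
  /-- No square root of `zc` centralizes a product of the two. -/
  no_sqrt : ∀ j : M, j * j = zc → j * (t * p) ≠ t * p * j ∧ j * (t * p⁻¹) ≠ t * p⁻¹ * j
  /-- Only `A` fixes all root subgroups. -/
  faithful : ∀ n ∈ normalizer (A : Set M),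
    (∀ m ∈ normalizer (A : Set M), n * (m * t * m⁻¹) * n⁻¹ ∈ zpowers (m * t * m⁻¹)) → n ∈ A

end Cfsg.Agent.SuzukiElementary
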