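import Cfsg.Agent.Lib.SuzukiElementary.Blocks

/-!
Finite checks on the action of `GL₂(9)` on the skew hermitian matrices.
-/

set_option autoImplicit false
set_option maxRecDepth 100000
set_option synthInstance.maxSize 4096

namespace Cfsg.Agent.SuzukiElementary.PlaneU

open Matrix Cfsg.Agent.MonomialMult

/-- Cubing, executable. -/
def cb (x : Nine) : Nine := x * x * x

/-- The action, executable. -/
def act' (P B : B2) : B2 := P * B * (P.map cb)ᵀ

theorem act_eq (P B : B2) : act P B = act' P B := by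
  rw [act, act', show (cb : Nine → Nine) = cj from funext fun x => (cj_mul x).symm]

/-- The skew hermitian matrices. -/
def sk (i j : Fin 3) (x : Nine) : B2 :=
  !![o i.val * o 4, x; -cb x, o j.val * o 4]

/-- The transvection of `t`. -/
def bT : B2 := !![o 4, 0; 0, 0]

/-- The transvection of `p`. -/
def bP : B2 := !![0, 0; 0, o 4]

/-- The isotropic points of the plane. -/
def pt : Option Nine → Nine × Nine
  | some s => (1, s)
  | none => (0, 1)

/-- The transvections. -/
def rootB (v : Option Nine) : B2 :=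
  !![o 4 * ((pt v).1 * cb (pt v).1), o 4 * ((pt v).1 * cb (pt v).2);
    o 4 * ((pt v).2 * cb (pt v).1), o 4 * ((pt v).2 * cb (pt v).2)]

/-- A Levi element with given first column. -/
def lev : Option Nine → B2
  | some s => !![1, 0; s, 1]
  | none => !![0, -1; 1, 0]

/-- A Levi element moving a point to the second one, fixing the first. -/
def lev2 : Option Nine → B2
  | some s => !![1, -s⁻¹; 0, 1]
  | none => 1

theorem skew_diag : ∀ x : Nine, x + cb x = 0 → ∃ i : Fin 3, x = o i.val * o 4 := by decide +kernel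

theorem sk_skew : ∀ i j : Fin 3, ∀ x : Nine, (sk i j x)ᵀ + (sk i j x).map cb = 0 := by decide +kernel

theorem sk_inj : ∀ i j : Fin 3, ∀ x : Nine, ∀ i' j' : Fin 3, ∀ x' : Nine,
    sk i j x 0 0 = sk i' j' x' 0 0 → sk i j x 1 1 = sk i' j' x' 1 1 → sk i j x 0 1 = sk i' j' x' 0 1 →
      i = i' ∧ j = j' ∧ x = x' := by decide +kernel

theorem lev_det : ∀ v : Option Nine, ((lev v).det = 1 ∧ (lev2 v).det = 1) := by decide +kernel

theorem lev_root : ∀ v : Option Nine, act' (lev v) bT = rootB v ∧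
    (v ≠ some 0 → act' (lev2 v) bT = bT ∧ ∃ w, (w = bP ∨ w = -bP) ∧ act' (lev2 v) (rootB v) = w) := by
  decide +kernel

theorem root_base : rootB (some 0) = bT ∧ rootB none = bP ∧ -bP ≠ bP ∧ (-bT ≠ bT ∧ bT ≠ 0 ∧ bP ≠ 0) ∧
    bP ≠ bT ∧ bP ≠ -bT := by decide +kernel

theorem root_inj : ∀ v w : Option Nine, rootB v 0 0 = rootB w 0 0 ∧ rootB v 0 1 = rootB w 0 1 ∧
    rootB v 1 1 = rootB w 1 1 ∨ rootB v 0 0 = -rootB w 0 0 ∧ rootB v 0 1 = -rootB w 0 1 ∧
    rootB v 1 1 = -rootB w 1 1 → v = w := by decide +kernel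

theorem root_cases : ∀ i j : Fin 3, ∀ x : Nine, (sk i j x).det = 0 → (i = 0 ∧ j = 0 ∧ x = 0) ∨
    ∃ v, sk i j x = rootB v ∨ sk i j x = -rootB v := by decide +kernel

theorem diagonalise : ∀ i j : Fin 3, ∀ x : Nine,
    ∃ q : Option Nine × Option Nine × Fin 2, ∃ i' j' : Fin 3,
      act' (if q.2.2 = 0 then lev q.1 * lev q.2.1 else lev2 q.1 * lev q.2.1) (sk i j x) = sk i' j' 0 := by
  decide +kernel

theorem levi_count : Fintype.card {p : Nine × Nine × Nine × Nine //
    p.1 * p.2.2.2 - p.2.1 * p.2.2.1 = 1 ∨ p.1 * p.2.2.2 - p.2.1 * p.2.2.1 = -1} = 1440 := by decide +kernel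

/-- The matrices that fix `bT`, `bP` and one further transvection. -/
theorem fix_diag : ∀ a b c d : Nine, (a * d - b * c = 1 ∨ a * d - b * c = -1) →
    act' !![a, b; c, d] bT = bT → act' !![a, b; c, d] bP = bP →
      b = 0 ∧ c = 0 ∧ a * a * (a * a) = 1 ∧ d * d * (d * d) = 1 ∧
      (act' !![a, b; c, d] (sk 0 0 1) = sk 0 0 1 → a = d) ∧
      (∀ s : Nine, a * a * a = s → d * d * d = s → a = d) := by decide +kernel

theorem no_root : ∀ a b c d : Nine, (a * d - b * c = 1 ∨ a * d - b * c = -1) → ∀ e : Fin 2,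
    act' !![a, b; c, d] (if e = 0 then bT + bP else bT + -bP) = (if e = 0 then bT + bP else bT + -bP) →
      a * a + b * c = -(c * b + d * d) → a * b + b * d = 0 → c * a + d * c = 0 → False := by
  decide +kernel

theorem faithful : ∀ a b c d : Nine, (a * d - b * c = 1 ∨ a * d - b * c = -1) →
    (act' !![a, b; c, d] bT = bT ∨ act' !![a, b; c, d] bT = -bT) →
    (act' !![a, b; c, d] bP = bP ∨ act' !![a, b; c, d] bP = -bP) →
    (act' !![a, b; c, d] (rootB (some 1)) = rootB (some 1) ∨
      act' !![a, b; c, d] (rootB (some 1)) = -rootB (some 1)) →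
    (act' !![a, b; c, d] (rootB (some (o 3))) = rootB (some (o 3)) ∨
      act' !![a, b; c, d] (rootB (some (o 3))) = -rootB (some (o 3))) →
      b = 0 ∧ c = 0 ∧ a = d ∧ a * a * (a * a) = 1 := by decide +kernel

end Cfsg.Agent.SuzukiElementary.PlaneU
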