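import Cfsg.Agent.Lib.SuzukiElementary.Exists
import Cfsg.Agent.Lib.SuzukiThree.Entry
import Cfsg.Agent.Lib.SuzukiLocal.FactsProof

/-!
The elementary abelian subgroup inside a given Sylow 3-subgroup of the normalizer.
-/

set_option autoImplicit false
set_option maxRecDepth 8000
set_option synthInstance.maxSize 4096

namespace Cfsg.Agent.SuzukiElementary

open Subgroup

theorem suz_factor : (448345497600 : ℕ).factorization 3 = 7 := by
  rw [show (448345497600 : ℕ) = 205004800 * 3 ^ 7 by norm_num,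
    Nat.factorization_mul (by norm_num) (by norm_num), Finsupp.add_apply, Nat.factorization_pow, Finsupp.smul_apply,
    Nat.factorization_eq_zero_of_not_dvd (by norm_num : ¬ 3 ∣ 205004800),
    Nat.Prime.factorization_self Nat.prime_three]
  rfl

/-- Moving the data by an inner automorphism. -/
theorem transport {G : Type*} [Group G] [Finite G] (σ : G ≃* G) {A : Subgroup G}
    (hA : Cfsg.IsElementaryAbelian 3 A) (hC : centralizer (A : Set G) = A)
    [(A.subgroupOf (normalizer (A : Set G))).Normal]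
    (hM : Cfsg.Spor.IsoM11 (↥(normalizer (A : Set G)) ⧸ A.subgroupOf (normalizer (A : Set G)))) :
    Cfsg.IsElementaryAbelian 3 (A.map σ.toMonoidHom) ∧
      centralizer ((A.map σ.toMonoidHom : Subgroup G) : Set G) = A.map σ.toMonoidHom ∧
      ∃ _ : ((A.map σ.toMonoidHom).subgroupOf (normalizer ((A.map σ.toMonoidHom : Subgroup G) : Set G))).Normal,
        Cfsg.Spor.IsoM11 (↥(normalizer ((A.map σ.toMonoidHom : Subgroup G) : Set G)) ⧸
          (A.map σ.toMonoidHom).subgroupOf (normalizer ((A.map σ.toMonoidHom : Subgroup G) : Set G))) := by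
  refine ⟨⟨⟨⟨?_⟩⟩, ?_⟩, ?_, ?_⟩
  · rintro ⟨_, u, hu, rfl⟩ ⟨_, v, hv, rfl⟩
    refine Subtype.ext ?_
    show σ u * σ v = σ v * σ u
    have h : u * v = v * u := congrArg Subtype.val (hA.1.is_comm.comm ⟨u, hu⟩ ⟨v, hv⟩)
    rw [← map_mul, h, map_mul]
  · rintro _ ⟨u, hu, rfl⟩
    rw [← map_pow, hA.2 u hu, map_one]
  · ext v
    obtain ⟨u, rfl⟩ := σ.surjective v
    rw [conj_centralizer_iff, hC]
    exact (mem_map_iff_mem σ.injective).symm
  · have hN : ((A.map σ.toMonoidHom).subgroupOf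
        (normalizer ((A.map σ.toMonoidHom : Subgroup G) : Set G))).Normal := normal_in_normalizer
    refine ⟨hN, ?_⟩
    obtain ⟨f⟩ := hM
    let e : ↥(normalizer (A : Set G)) ≃* ↥(normalizer ((A.map σ.toMonoidHom : Subgroup G) : Set G)) :=
      ((normalizer (A : Set G)).equivMapOfInjective σ.toMonoidHom σ.injective).trans
        (MulEquiv.subgroupCongr (normalizer_map_equiv σ A))
    have he : (A.subgroupOf (normalizer (A : Set G))).map e.toMonoidHom =
        (A.map σ.toMonoidHom).subgroupOf (normalizer ((A.map σ.toMonoidHom : Subgroup G) : Set G)) := by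
      ext v
      obtain ⟨u, rfl⟩ := e.surjective v
      refine (mem_map_iff_mem e.injective).trans ?_
      rw [mem_subgroupOf, mem_subgroupOf]
      exact (mem_map_iff_mem σ.injective).symm
    exact ⟨(QuotientGroup.congr _ _ e he).symm.trans f⟩

theorem main {G : Type*} [Group G] [Finite G] (z : G) (hz : orderOf z = 2)
    (Q : Subgroup (centralizer ({z} : Set G))) [Q.Normal]
    (hF : Cfsg.generalizedFittingSubgroup (centralizer ({z} : Set G)) = Q) (hQ : Cfsg.IsExtraspecial 2 Q)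
    (hcard : Nat.card Q = 2 ^ 7)
    (e : (centralizer ({z} : Set G)) ⧸ Q ≃* Cfsg.Omega (ZMod 2) (Cfsg.quadFormMinus 2 (ZMod 2) 1 1))
    (hnwc : ∃ g : G, (∃ hq : g * z * g⁻¹ ∈ centralizer ({z} : Set G),
      (⟨g * z * g⁻¹, hq⟩ : centralizer ({z} : Set G)) ∈ Q) ∧ g * z * g⁻¹ ≠ z)
    (Y : Subgroup (centralizer ({z} : Set G))) (hY : Nat.card Y = 3) (hQY : Nat.card ↥⁅Q, Y⁆ = 8)
    (hQYna : ¬ IsMulCommutative ↥⁅Q, Y⁆)
    (P : Sylow 3 ↥(normalizer ((Y.map (centralizer ({z} : Set G)).subtype : Subgroup G) : Set G))) :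
    ¬ 3 ∣ ((P : Subgroup ↥(normalizer ((Y.map (centralizer ({z} : Set G)).subtype : Subgroup G) : Set G))).map
        (Subgroup.subtype _)).index ∧
      ∃ A : Subgroup G,
        A ≤ (P : Subgroup ↥(normalizer ((Y.map (centralizer ({z} : Set G)).subtype : Subgroup G) : Set G))).map
          (Subgroup.subtype _) ∧
        Cfsg.IsElementaryAbelian 3 A ∧ Nat.card A = 3 ^ 5 ∧ centralizer (A : Set G) = A ∧
        ∃ _ : (A.subgroupOf (normalizer (A : Set G))).Normal,
          Cfsg.Spor.IsoM11 (↥(normalizer (A : Set G)) ⧸ A.subgroupOf (normalizer (A : Set G))) := by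
  classical
  haveI : Fact (Nat.Prime 3) := ⟨Nat.prime_three⟩
  obtain ⟨y, a, Q1, hy, ⟨D⟩⟩ := SuzukiThree.exists_data z hz Q hF hQ hcard e hnwc Y hY hQY hQYna
  obtain ⟨t, E, hfacts⟩ := SuzukiLocal.exists_facts z hz Q hF hQ hcard e hnwc
  obtain ⟨A, hAN, hdiv, hA, hA243, hC, hnA, hM⟩ := exists_group D
  revert P
  rw [hy]
  generalize hN : normalizer (zpowers y : Set G) = N at hAN hdiv ⊢
  intro P
  set R := (P : Subgroup ↥N).map N.subtype with hR
  -- the order of the Sylow subgroup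
  have hcP : Nat.card ↥R = 3 ^ 7 := by
    have h1 : Nat.card ↥R = 3 ^ (Nat.card ↥N).factorization 3 := by
      rw [hR, card_map_of_injective N.subtype_injective]
      exact P.card_eq_multiplicity
    have h7 : 7 ≤ (Nat.card ↥N).factorization 3 :=
      (Nat.Prime.pow_dvd_iff_le_factorization Nat.prime_three Nat.card_pos.ne').1 hdiv
    have h7' : (Nat.card ↥N).factorization 3 ≤ 7 := by
      have h := (Nat.factorization_le_iff_dvd Nat.card_pos.ne' Nat.card_pos.ne').2
        (card_subgroup_dvd_card N) 3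
      rwa [hfacts.card_G, suz_factor] at h
    rw [h1, le_antisymm h7' h7]
  refine ⟨fun h3 => ?_, ?_⟩
  · have h := R.card_mul_index
    rw [hcP, hfacts.card_G] at h
    have h' : 3 ^ 7 * 3 ∣ 448345497600 := h ▸ Nat.mul_dvd_mul_left _ h3
    norm_num at h'
  -- a conjugate inside it
  have hpA : IsPGroup 3 ↥(A.subgroupOf N) := IsPGroup.of_card (n := 5) (by
    rw [Nat.card_congr (subgroupOfEquivOfLe hAN).toEquiv, hA243]; norm_num)
  obtain ⟨P', hP'⟩ := hpA.exists_le_sylow
  obtain ⟨n, hn⟩ := MulAction.exists_smul_eq ↥N P' P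
  refine ⟨A.map (MulAut.conj (n : G)).toMonoidHom, ?_, ?_⟩
  · rintro _ ⟨x, hx, rfl⟩
    refine ⟨n * ⟨x, hAN hx⟩ * n⁻¹, ?_, rfl⟩
    rw [← hn]
    exact ⟨⟨x, hAN hx⟩, hP' (mem_subgroupOf.2 hx), rfl⟩
  · haveI := hnA
    obtain ⟨h1, h2, h3, h4⟩ := transport (MulAut.conj (n : G)) hA hC hM
    exact ⟨h1, by rw [card_map_of_injective (MulAut.conj (n : G)).injective, hA243]; norm_num, h2, h3, h4⟩

end Cfsg.Agent.SuzukiElementary
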