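import Cfsg.Agent.Lib.SuzukiElementary.LeviChecks
import Cfsg.Agent.Lib.SuzukiElementary.Interface

/-!
The parabolic subgroup `3⁴:A₆` of `PSU₄(3)`.
-/

set_option autoImplicit false
set_option maxRecDepth 20000
set_option synthInstance.maxSize 4096

namespace Cfsg.Agent.SuzukiElementary.PlaneU

open Matrix Cfsg.Agent.MonomialMult Cfsg.Agent.SuzukiThree Cfsg.Agent.Classical.Unitary

/-- The unitary group. -/
abbrev M : Type := Cfsg.PSU 4 Nine 3

/-- The projection. -/
abbrev pj : Cfsg.SU 4 Nine 3 →* M := QuotientGroup.mk' _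

/-- The unipotent elements. -/
def U (B : B2) : Prop := Bᵀ + B.map cj = 0

theorem sk_mem (i j : Fin 3) (x : Nine) : U (sk i j x) := by
  rw [U, show (cj : Nine → Nine) = cb from funext cj_mul]
  exact sk_skew i j x

theorem exists_sk {B : B2} (h : U B) : ∃ i j x, B = sk i j x := by
  rw [U, show (cj : Nine → Nine) = cb from funext cj_mul] at h
  have e : ∀ i j : Fin 2, B j i + cb (B i j) = 0 := fun i j => congrFun (congrFun h i) j
  obtain ⟨i, hi⟩ := skew_diag _ (e 0 0)
  obtain ⟨j, hj⟩ := skew_diag _ (e 1 1)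
  refine ⟨i, j, B 0 1, ?_⟩
  ext u v
  fin_cases u <;> fin_cases v
  · exact hi
  · rfl
  · exact eq_neg_of_add_eq_zero_left (e 0 1)
  · exact hj

theorem U_zero : U 0 := by rw [U]; simp

theorem U_add {B B' : B2} (h : U B) (h' : U B') : U (B + B') := by
  rw [U] at *
  rw [Matrix.transpose_add, Matrix.map_add _ (map_add cj), add_add_add_comm, h, h', add_zero]

theorem U_neg {B : B2} (h : U B) : U (-B) := by
  rw [U] at *
  have : (-B).map cj = -(B.map cj) := by ext i j; simp [map_neg]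
  rw [Matrix.transpose_neg, this, ← neg_add, h, neg_zero]

theorem U_act {P B : B2} (h : U B) : U (act P B) := by
  rw [U] at *
  have hcc : ∀ N : B2, (N.map cj).map cj = N := fun N => by
    ext i j; simp [Forms.HermStd.pow_q_q Nine.card]
  rw [act, Matrix.transpose_mul, Matrix.transpose_mul, Matrix.transpose_transpose, Matrix.map_mul,
    Matrix.map_mul, Matrix.transpose_map, hcc, ← Matrix.mul_assoc, ← Matrix.add_mul, ← Matrix.mul_add, h,
    Matrix.mul_zero, Matrix.zero_mul]

/-- The chosen lift. -/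
noncomputable def uni {B : B2} (h : U B) : Cfsg.SU 4 Nine 3 := (exists_uni h).choose

theorem blk_uni {B : B2} (h : U B) : blk (uni h) = fromBlocks 1 B 0 1 := (exists_uni h).choose_spec

theorem uni_mul {B B' : B2} (h : U B) (h' : U B') : uni h * uni h' = uni (U_add h h') := blk_inj (by
  rw [blk_mul, blk_uni, blk_uni, blk_uni, fromBlocks_multiply]
  simp [add_comm B' B])

theorem uni_congr {B B' : B2} (h : U B) (h' : U B') (e : B = B') : uni h = uni h' := by subst e; rfl

theorem uni_zero : uni U_zero = 1 := blk_inj (by rw [blk_uni, blk_one, fromBlocks_one])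

theorem uni_inv {B : B2} (h : U B) : (uni h)⁻¹ = uni (U_neg h) :=
  inv_eq_of_mul_eq_one_right (by
    rw [uni_mul, uni_congr _ U_zero (add_neg_cancel B), uni_zero])

theorem uni_inj {B B' : B2} (h : U B) (h' : U B') (e : uni h = uni h') : B = B' := by
  have e' := congrArg blk e
  rw [blk_uni, blk_uni] at e'
  exact (fromBlocks_inj.1 e').2.1

theorem three_zero : ∀ x : Nine, x + x + x = 0 := by decide +kernel

theorem uni_cube {B : B2} (h : U B) : uni h ^ 3 = 1 := by
  rw [pow_succ, pow_two, uni_mul, uni_mul, uni_congr _ U_zero, uni_zero]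
  ext i j
  exact three_zero _

theorem center_blk {c : Cfsg.SU 4 Nine 3} (hc : c ∈ Subgroup.center (Cfsg.SU 4 Nine 3)) :
    ∃ s : Nine, blk c = s • 1 ∧ c ^ 4 = 1 := by
  obtain ⟨s, hs⟩ := (mem_center_iff Nine.card (by norm_num) c).1 hc
  have hb : ∀ d : Cfsg.SU 4 Nine 3, ∀ r : Nine, mat d = r • (1 : Matrix (Fin 4) (Fin 4) Nine) →
      blk d = r • 1 := fun d r hd => by
    rw [blk, hd, Matrix.mul_smul, Matrix.mul_one, Matrix.smul_mul, base_facts.1]
  refine ⟨s, hb c s hs, ?_⟩
  have hdet : (mat c).det = 1 := c.1.2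
  rw [hs, Matrix.det_smul, Matrix.det_one, Fintype.card_fin, mul_one] at hdet
  refine blk_inj ?_
  rw [show c ^ 4 = c * c * (c * c) by simp [pow_succ, mul_assoc], blk_mul, blk_mul, hb c s hs, blk_one]
  rw [Matrix.smul_mul, Matrix.one_mul, smul_smul, Matrix.smul_mul, Matrix.one_mul, smul_smul,
    show s * s * (s * s) = s ^ 4 by ring, hdet, one_smul]

theorem pj_uni_inj {B B' : B2} (h : U B) (h' : U B') (e : pj (uni h) = pj (uni h')) : B = B' := by
  have hc : (uni h)⁻¹ * uni h' ∈ Subgroup.center (Cfsg.SU 4 Nine 3) := QuotientGroup.eq.1 e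
  obtain ⟨-, -, h4⟩ := center_blk hc
  rw [uni_inv h, uni_mul] at hc h4
  have h3 := uni_cube (U_add (U_neg h) h')
  rw [pow_succ, h3, one_mul, ← uni_zero] at h4
  exact eq_of_sub_eq_zero (by rw [← uni_inj _ _ h4]; abel) |>.symm

/-- Commuting in the quotient with a unipotent element is commuting. -/
theorem exact_conj {a : Cfsg.SU 4 Nine 3} {B B' : B2} (h : U B) (h' : U B')
    (e : pj a * pj (uni h) * (pj a)⁻¹ = pj (uni h')) : a * uni h = uni h' * a := by
  rw [← map_inv, ← map_mul, ← map_mul] at e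
  set c := (uni h')⁻¹ * (a * uni h * a⁻¹) with hc
  have hcm : c ∈ Subgroup.center (Cfsg.SU 4 Nine 3) := QuotientGroup.eq.1 e.symm
  obtain ⟨-, -, h4⟩ := center_blk hcm
  have h3 : c ^ 3 = 1 := by
    have hco : Commute (uni h') c := Subgroup.mem_center_iff.1 hcm (uni h')
    have e1 : uni h' * c = a * uni h * a⁻¹ := by rw [hc]; group
    have e2 := hco.mul_pow 3
    rw [e1, conj_pow, uni_cube, mul_one, mul_inv_cancel, uni_cube, one_mul] at e2
    exact e2.symm
  rw [pow_succ, h3, one_mul] at h4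
  rw [← mul_one (uni h'), ← h4, hc]
  group

/-- The elementary abelian subgroup of order 81. -/
noncomputable def A0 : Subgroup M where
  carrier := {x | ∃ (B : B2) (h : U B), pj (uni h) = x}
  one_mem' := ⟨0, U_zero, by rw [uni_zero, map_one]⟩
  mul_mem' := by
    rintro _ _ ⟨B, h, rfl⟩ ⟨B', h', rfl⟩
    exact ⟨_, U_add h h', by rw [← uni_mul, map_mul]⟩
  inv_mem' := by
    rintro _ ⟨B, h, rfl⟩
    exact ⟨_, U_neg h, by rw [← uni_inv, map_inv]⟩

theorem card_A0 : Nat.card A0 = 81 := by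
  let f : Fin 3 × Fin 3 × Nine → A0 := fun q => ⟨pj (uni (sk_mem q.1 q.2.1 q.2.2)), _, _, rfl⟩
  have hf : Function.Bijective f := by
    refine ⟨fun q q' e => ?_, ?_⟩
    · have h := pj_uni_inj _ _ (congrArg Subtype.val e)
      obtain ⟨h1, h2, h3⟩ := sk_inj _ _ _ _ _ _ (congrFun (congrFun h 0) 0) (congrFun (congrFun h 1) 1)
        (congrFun (congrFun h 0) 1)
      exact Prod.ext h1 (Prod.ext h2 h3)
    · rintro ⟨_, B, h, rfl⟩
      obtain ⟨i, j, x, rfl⟩ := exists_sk h
      exact ⟨(i, j, x), rfl⟩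
  rw [← Nat.card_eq_of_bijective f hf, Nat.card_prod, Nat.card_prod, Nat.card_eq_fintype_card (α := Nine),
    Nine.card]
  simp

theorem U_T : U bT := by rw [show bT = sk 1 0 0 by decide]; exact sk_mem _ _ _

theorem U_P : U bP := by rw [show bP = sk 0 1 0 by decide]; exact sk_mem _ _ _

theorem U_root (v : Option Nine) : U (rootB v) := by
  rw [← (lev_root v).1, ← act_eq]; exact U_act U_T

/-- Elements stabilizing the plane. -/
def InP (a : Cfsg.SU 4 Nine 3) : Prop := ∃ P Q D, blk a = fromBlocks P Q 0 D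

theorem conj_uni {a : Cfsg.SU 4 Nine 3} {P Q D B : B2} (ha : blk a = fromBlocks P Q 0 D) (h : U B) :
    pj a * pj (uni h) * (pj a)⁻¹ = pj (uni (U_act (P := P) h)) := by
  rw [mul_inv_eq_iff_eq_mul, ← map_mul, ← map_mul]
  exact congrArg pj ((stab_conj ha (blk_uni h) (blk_uni _)).2 rfl)

theorem inP_of_conj {a : Cfsg.SU 4 Nine 3} {B B' : B2} (h : U B) (h' : U B') (hd : IsUnit B.det)
    (e : pj a * pj (uni h) * (pj a)⁻¹ = pj (uni h')) : InP a :=
  ⟨_, _, _, stab_of_comm (blk_uni h) (blk_uni h') hd (exact_conj h h' e)⟩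

theorem det_TP : IsUnit (bT + bP).det ∧ IsUnit (bT + -bP).det := by
  simp only [isUnit_iff_ne_zero]
  decide +kernel

theorem mem_normalizer_iff' {a : Cfsg.SU 4 Nine 3} :
    pj a ∈ Subgroup.normalizer (A0 : Set M) ↔ InP a := by
  constructor
  · intro ha
    obtain ⟨B', h', e⟩ := (Subgroup.mem_normalizer_iff.1 ha _).1 ⟨_, U_add U_T U_P, rfl⟩
    exact inP_of_conj _ h' det_TP.1 e.symm
  · rintro ⟨P, Q, D, ha⟩
    refine Subgroup.mem_normalizer_fintype fun x hx => ?_
    obtain ⟨B, h, rfl⟩ := hx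
    exact ⟨_, U_act (P := P) h, (conj_uni ha h).symm⟩

theorem scalar_mem {a : Cfsg.SU 4 Nine 3} {P Q D : B2} (ha : blk a = fromBlocks P Q 0 D) {s : Nine}
    (hP : P = s • 1) (hs : s * s * (s * s) = 1) : pj a ∈ A0 := by
  have hs0 : s ≠ 0 := fun e => by rw [e] at hs; simp at hs
  have hcs : cj s * s = 1 := by rw [cj_mul, mul_assoc (s * s), hs]
  obtain ⟨hPD, hQ, -⟩ := stab_eqs ha
  have hmap : (s • (1 : B2)).map cj = cj s • (1 : B2) := by
    ext i j; fin_cases i <;> fin_cases j <;> simp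
  have hD : D = s • 1 := by
    rw [hP, hmap, Matrix.transpose_smul, Matrix.transpose_one, Matrix.smul_mul, Matrix.one_mul] at hPD
    rw [← hPD, smul_smul, mul_comm, hcs, one_smul]
  have hU : U (s⁻¹ • Q) := by
    have hsi : s⁻¹ = cj s := (eq_inv_of_mul_eq_one_left hcs).symm
    have hcc : cj (cj s) = s := by simp [Forms.HermStd.pow_q_q Nine.card]
    rw [hD, hmap, Matrix.transpose_smul, Matrix.transpose_one, Matrix.mul_smul, Matrix.mul_one,
      Matrix.smul_mul, Matrix.one_mul] at hQ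
    have hmap2 : (s⁻¹ • Q).map cj = s • Q.map cj := by
      ext i j
      rw [hsi, Matrix.map_apply, Matrix.smul_apply, Matrix.smul_apply, Matrix.map_apply, smul_eq_mul, map_mul,
        hcc, smul_eq_mul]
    rw [U, Matrix.transpose_smul, hmap2, hsi, hQ]
  obtain ⟨c, hc⟩ : ∃ c : Cfsg.SU 4 Nine 3, blk c = s • (1 : B4) := by
    refine exists_blk ?_ ?_
    · rw [Matrix.det_smul, Matrix.det_one, mul_one, show Fintype.card (Fin 2 ⊕ Fin 2) = 4 from rfl, ← hs]
      ring
    · have : (s • (1 : B4)).map cj = cj s • (1 : B4) := by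
        ext i j
        by_cases hij : i = j <;> simp [hij]
      rw [this, Matrix.transpose_smul, Matrix.transpose_one, Matrix.smul_mul, Matrix.one_mul, Matrix.mul_smul,
        Matrix.mul_one, smul_smul, hcs, one_smul]
  have hcm : c ∈ Subgroup.center (Cfsg.SU 4 Nine 3) := Subgroup.mem_center_iff.2 fun g =>
    blk_inj (by rw [blk_mul, blk_mul, hc, Matrix.mul_smul, Matrix.smul_mul, Matrix.one_mul, Matrix.mul_one])
  refine ⟨_, hU, ?_⟩
  have hac : a = c * uni hU := blk_inj (by
    rw [blk_mul, hc, blk_uni, ha, hD, hP, Matrix.smul_mul, Matrix.one_mul, fromBlocks_smul]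
    simp [smul_smul, mul_inv_cancel₀ hs0])
  rw [hac, map_mul, show pj c = 1 from (QuotientGroup.eq_one_iff c).2 hcm, one_mul]

theorem det_entries {P : B2} (h : P.det = 1 ∨ P.det = -1) :
    P 0 0 * P 1 1 - P 0 1 * P 1 0 = 1 ∨ P 0 0 * P 1 1 - P 0 1 * P 1 0 = -1 := by
  rwa [Matrix.det_fin_two] at h

theorem eta2 (P : B2) : P = !![P 0 0, P 0 1; P 1 0, P 1 1] := by
  ext i j; fin_cases i <;> fin_cases j <;> rfl

end Cfsg.Agent.SuzukiElementary.PlaneU
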