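import Cfsg.Agent.Lib.SuzukiElementary.Interface

/-!
Transport of the parabolic data and the consequences used.
-/

set_option autoImplicit false

namespace Cfsg.Agent.SuzukiElementary

open Subgroup

variable {M X : Type*} [Group M] [Group X]

theorem conj_centralizer_iff (f : M ≃* X) {A : Subgroup M} {x : M} :
    f x ∈ centralizer ((A.map f.toMonoidHom : Subgroup X) : Set X) ↔ x ∈ centralizer (A : Set M) := by
  rw [mem_centralizer_iff, mem_centralizer_iff]
  constructor
  · intro h u hu
    exact f.injective (by simpa using h (f u) (mem_map_of_mem f.toMonoidHom hu))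
  · rintro h _ ⟨u, hu, rfl⟩
    show f u * f x = f x * f u
    rw [← map_mul, h u hu, map_mul]

theorem mem_normalizer_map (f : M ≃* X) {A : Subgroup M} {x : M} :
    f x ∈ normalizer ((A.map f.toMonoidHom : Subgroup X) : Set X) ↔ x ∈ normalizer (A : Set M) := by
  rw [mem_normalizer_iff, mem_normalizer_iff]
  have hm : ∀ u, f u ∈ A.map f.toMonoidHom ↔ u ∈ A := fun u => mem_map_iff_mem f.injective
  constructor
  · intro h u
    rw [← hm, ← hm, map_mul, map_mul, map_inv]
    exact h (f u)
  · intro h v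
    obtain ⟨u, rfl⟩ := f.surjective v
    rw [← map_inv, ← map_mul, ← map_mul, hm, hm]
    exact h u

theorem normalizer_map_equiv (f : M ≃* X) (A : Subgroup M) :
    (normalizer (A : Set M)).map f.toMonoidHom = normalizer ((A.map f.toMonoidHom : Subgroup X) : Set X) := by
  ext v
  obtain ⟨u, rfl⟩ := f.surjective v
  exact (mem_map_iff_mem f.injective).trans (mem_normalizer_map f).symm

namespace Parabolic

variable {zc t p : M} {A : Subgroup M}

/-- Transport along an isomorphism. -/
theorem map (P : Parabolic zc t p A) (f : M ≃* X) :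
    Parabolic (f zc) (f t) (f p) (A.map f.toMonoidHom) := by
  have hm : ∀ u, f u ∈ A.map f.toMonoidHom ↔ u ∈ A := fun u => mem_map_iff_mem f.injective
  have hz : ∀ a b : M, f a ∈ zpowers (f b) ↔ a ∈ zpowers b := fun a b => by
    show f.toMonoidHom a ∈ zpowers (f.toMonoidHom b) ↔ _
    rw [← MonoidHom.map_zpowers]
    exact mem_map_iff_mem f.injective
  refine
    { card_A := by rw [card_map_of_injective f.injective, P.card_A]
      cube := ?_, comm := ?_, cent := ?_, t_mem := (hm t).2 P.t_mem, p_mem := (hm p).2 P.p_mem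
      t_ne := fun e => P.t_ne (f.map_eq_one_iff.1 e), p_ne := fun e => P.p_ne (f.map_eq_one_iff.1 e)
      tp_ne := fun e => P.tp_ne ((hz p t).1 e)
      t_zc := by rw [← map_mul, P.t_zc, map_mul]
      p_zc := by rw [← map_mul, P.p_zc, map_mul]
      cent_tp := ?_
      card_N := by rw [← normalizer_map_equiv, card_map_of_injective f.injective, P.card_N]
      diag := ?_, roots := ?_, p_root := ?_, two_trans := ?_, no_sqrt := ?_, faithful := ?_ }
  · rintro _ ⟨u, hu, rfl⟩
    rw [← map_pow, P.cube u hu, map_one]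
  · rintro _ ⟨u, hu, rfl⟩ _ ⟨v, hv, rfl⟩
    rw [← map_mul, P.comm u hu v hv, map_mul]
  · ext v
    obtain ⟨u, rfl⟩ := f.surjective v
    rw [conj_centralizer_iff, hm, P.cent]
  · intro v h3 ht hp
    obtain ⟨u, rfl⟩ := f.surjective v
    refine (hm u).2 (P.cent_tp u (f.injective ?_) (f.injective ?_) (f.injective ?_)) <;>
      simp only [map_pow, map_mul, map_one] <;> assumption
  · rintro _ ⟨r, hr, rfl⟩
    obtain ⟨n, hn, h⟩ := P.diag r hr
    refine ⟨f n, (mem_normalizer_map f).2 hn, ?_⟩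
    have h' := mem_map_of_mem f.toMonoidHom h
    rw [MonoidHom.map_closure, Set.image_pair] at h'
    simpa using h'
  · refine (Nat.card_congr ?_).symm.trans P.roots
    refine (f.mapSubgroup.toEquiv).subtypeEquiv fun L => ?_
    constructor
    · rintro ⟨n, hn, rfl⟩
      refine ⟨f n, (mem_normalizer_map f).2 hn, ?_⟩
      show (zpowers _).map f.toMonoidHom = _
      rw [MonoidHom.map_zpowers]
      simp
    · rintro ⟨v, hv, e⟩
      obtain ⟨n, rfl⟩ := f.surjective v
      refine ⟨n, (mem_normalizer_map f).1 hv, map_injective (f := f.toMonoidHom) f.injective ?_⟩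
      rw [MonoidHom.map_zpowers]
      refine e.trans ?_
      simp
  · obtain ⟨n, hn, h⟩ := P.p_root
    exact ⟨f n, (mem_normalizer_map f).2 hn, by rw [← map_inv, ← map_mul, ← map_mul, h]⟩
  · intro v hv hne
    obtain ⟨n, rfl⟩ := f.surjective v
    rw [← map_inv, ← map_mul, ← map_mul, hz] at hne
    obtain ⟨m, hm', h1, h2⟩ := P.two_trans n ((mem_normalizer_map f).1 hv) hne
    refine ⟨f m, (mem_normalizer_map f).2 hm', by rw [← map_inv, ← map_mul, ← map_mul, h1], ?_⟩
    simp only [← map_inv, ← map_mul, hz]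
    exact h2
  · intro v hv
    obtain ⟨j, rfl⟩ := f.surjective v
    obtain ⟨h1, h2⟩ := P.no_sqrt j (f.injective (by rw [map_mul]; exact hv))
    refine ⟨fun e => h1 (f.injective ?_), fun e => h2 (f.injective ?_)⟩ <;>
      simp only [map_mul, map_inv] <;> assumption
  · intro v hv h
    obtain ⟨n, rfl⟩ := f.surjective v
    refine (hm n).2 (P.faithful n ((mem_normalizer_map f).1 hv) fun m hm' => ?_)
    have := h (f m) ((mem_normalizer_map f).2 hm')
    simp only [← map_inv, ← map_mul, hz] at this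
    exact this

theorem ord_t (P : Parabolic zc t p A) : orderOf t = 3 ∧ orderOf p = 3 := by
  haveI : Fact (Nat.Prime 3) := ⟨Nat.prime_three⟩
  exact ⟨orderOf_eq_prime (P.cube t P.t_mem) P.t_ne, orderOf_eq_prime (P.cube p P.p_mem) P.p_ne⟩

end Parabolic

theorem zpow_cases {G : Type*} [Group G] {b : G} (hb : b ^ 3 = 1) {x : G} (hx : x ∈ zpowers b) :
    x = 1 ∨ x = b ∨ x = b⁻¹ := by
  obtain ⟨i, rfl⟩ := mem_zpowers_iff.1 hx
  have h3 : b ^ (3 : ℤ) = 1 := by rw [show (3 : ℤ) = ((3 : ℕ) : ℤ) from rfl, zpow_natCast, hb]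
  rw [zpow_eq_zpow_emod i h3]
  rcases (by omega : i % 3 = 0 ∨ i % 3 = 1 ∨ i % 3 = 2) with e | e | e <;> rw [e]
  · exact Or.inl (zpow_zero b)
  · exact Or.inr (Or.inl (zpow_one b))
  · refine Or.inr (Or.inr ?_)
    rw [show (2 : ℤ) = 3 + -1 from rfl, _root_.zpow_add, h3, one_mul, zpow_neg_one]

theorem pair_closure {G : Type*} [Group G] {u v x : G} (huv : u * v = v * u)
    (hx : x ∈ closure ({u, v} : Set G)) : ∃ i j : ℤ, x = u ^ i * v ^ j := by
  induction hx using Subgroup.closure_induction with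
  | mem a ha =>
    rcases ha with e | e <;> rw [e]
    · exact ⟨1, 0, by simp⟩
    · exact ⟨0, 1, by simp⟩
  | one => exact ⟨0, 0, by simp⟩
  | mul a b _ _ ea eb =>
    obtain ⟨i, j, rfl⟩ := ea
    obtain ⟨k, l, rfl⟩ := eb
    refine ⟨i + k, j + l, ?_⟩
    have hc : Commute (v ^ j) (u ^ k) := ((show Commute u v from huv).zpow_zpow k j).symm
    rw [_root_.zpow_add, _root_.zpow_add, mul_assoc, ← mul_assoc (v ^ j), hc.eq]
    group
  | inv a _ ea =>
    obtain ⟨i, j, rfl⟩ := ea
    refine ⟨-i, -j, ?_⟩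
    rw [((show Commute u v from huv).zpow_zpow i j).eq, mul_inv_rev, zpow_neg, zpow_neg]

theorem card_pair {G : Type*} [Group G] {u v : G} (hu : orderOf u = 3) (hv : orderOf v = 3)
    (huv : u * v = v * u) (hne : v ∉ zpowers u) : Nat.card (closure ({u, v} : Set G)) = 9 := by
  have hvp : Nat.Prime 3 := Nat.prime_three
  have hd : zpowers u ⊓ zpowers v = ⊥ := by
    refine Subgroup.eq_bot_iff_forall _ |>.2 fun x hx => ?_
    by_contra hx1
    rcases zpow_cases (hv ▸ pow_orderOf_eq_one v) hx.2 with e | e | e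
    · exact hx1 e
    · exact hne (e ▸ hx.1)
    · exact hne ((Subgroup.inv_mem_iff _).1 (e ▸ hx.1))
  let f : zpowers u × zpowers v → closure ({u, v} : Set G) := fun q =>
    ⟨q.1.1 * q.2.1, mul_mem (zpowers_le.2 (subset_closure (by simp)) q.1.2)
      (zpowers_le.2 (subset_closure (by simp)) q.2.2)⟩
  have hf : Function.Bijective f := by
    refine ⟨fun q r e => ?_, fun x => ?_⟩
    · have e' : q.1.1 * q.2.1 = r.1.1 * r.2.1 := congrArg Subtype.val e
      have h : r.1.1⁻¹ * q.1.1 ∈ zpowers u ⊓ zpowers v := by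
        refine Subgroup.mem_inf.2 ⟨mul_mem (inv_mem r.1.2) q.1.2, ?_⟩
        rw [show r.1.1⁻¹ * q.1.1 = r.2.1 * q.2.1⁻¹ by
          rw [eq_mul_inv_iff_mul_eq, mul_assoc, e']; group]
        exact mul_mem r.2.2 (inv_mem q.2.2)
      rw [hd, mem_bot, inv_mul_eq_one] at h
      rw [h] at e'
      exact Prod.ext (Subtype.ext h.symm) (Subtype.ext (mul_left_cancel e'))
    · obtain ⟨i, j, e⟩ := pair_closure huv x.2
      exact ⟨⟨⟨_, i, rfl⟩, ⟨_, j, rfl⟩⟩, Subtype.ext e.symm⟩
  rw [← Nat.card_eq_of_bijective f hf, Nat.card_prod, Nat.card_zpowers, Nat.card_zpowers, hu, hv]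

/-- An element of the plane commuting with a square root of `zc` spans one of the two root subgroups. -/
theorem Parabolic.cases_of_sqrt {zc t p : M} {A : Subgroup M} (P : Parabolic zc t p A) {u j : M}
    (hu : u ∈ closure ({t, p} : Set M)) (hu1 : u ≠ 1) (hj : j * j = zc) (hju : j * u = u * j) :
    zpowers u = zpowers t ∨ zpowers u = zpowers p := by
  have ht3 := P.cube t P.t_mem
  have hp3 := P.cube p P.p_mem
  have hc := P.comm t P.t_mem p P.p_mem
  obtain ⟨i, k, rfl⟩ := pair_closure hc hu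
  obtain ⟨h1, h2⟩ := P.no_sqrt j hj
  have hci : ∀ w : M, Commute j w⁻¹ → Commute j w := fun w h => by simpa using h.inv_right
  rcases zpow_cases ht3 (⟨i, rfl⟩ : t ^ i ∈ zpowers t) with e | e | e <;>
    rcases zpow_cases hp3 (⟨k, rfl⟩ : p ^ k ∈ zpowers p) with e' | e' | e' <;> rw [e, e'] at hu1 hju ⊢
  · exact absurd (one_mul 1) hu1
  · exact Or.inr (by rw [one_mul])
  · exact Or.inr (by rw [one_mul, zpowers_inv])
  · exact Or.inl (by rw [mul_one])
  · exact absurd hju h1
  · exact absurd hju h2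
  · exact Or.inl (by rw [mul_one, zpowers_inv])
  · refine absurd (hci _ ?_) h2
    rw [show (t * p⁻¹)⁻¹ = p * t⁻¹ by group, ((show Commute t p from hc).symm.inv_right).eq]
    exact hju
  · refine absurd (hci _ ?_) h1
    rw [hc, mul_inv_rev]
    exact hju

end Cfsg.Agent.SuzukiElementary
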