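import Cfsg.Agent.Lib.SuzukiThree.Main
import Cfsg.Agent.Lib.SuzukiElementary.Transfer

/-!
The three commuting conjugates of the element of order three inside the centralizer of the involution.
-/

set_option autoImplicit false
set_option maxRecDepth 8000
set_option synthInstance.maxSize 4096

namespace Cfsg.Agent.SuzukiElementary

open Subgroup Cfsg.Agent.OctadInv.Orbits Cfsg.Agent.SuzukiType Cfsg.Agent.SuzukiThree Cfsg.Agent.LargeExtra

/-- A product of rotations with sixteen fixed vectors is one of them. -/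
theorem sixteen_fixed : ∀ i j k : Fin 3,
    Fintype.card {v : V // SuzukiThree.tau^[i] (SuzukiThree.tau2^[j] (SuzukiThree.tau3^[k] v)) = v} = 16 →
      (j = 0 ∧ k = 0) ∨ (i = 0 ∧ k = 0) ∨ (i = 0 ∧ j = 0) := by decide +kernel

theorem fix_card : Fintype.card {v : V // SuzukiThree.tau v = v} = 16 := by decide +kernel

theorem move_inj : ∀ v w : V, SuzukiThree.tau2 v = SuzukiThree.tau2 w → v = w := by
  intro v w h
  rw [← (tau_three v).2.1, h, (tau_three w).2.1]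

variable {G : Type*} [Group G] [Finite G] {Q Q' : Subgroup G} {z a y : G} (D : Su Q Q' z a y)

section Basic

include D

theorem fix_count {c : G} (hc : c * z = z * c) :
    Nat.card {v : V // act (D.S.act' (c * y * c⁻¹)) v = v} = 16 := by
  classical
  refine Eq.trans ?_ ((Nat.card_eq_fintype_card (α := {v : V // SuzukiThree.tau v = v})).trans fix_card)
  refine Nat.card_congr
    { toFun := fun v => (⟨act (D.S.act' c)⁻¹ v.1, ?_⟩ : {v : V // SuzukiThree.tau v = v})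
      invFun := fun v => ⟨act (D.S.act' c) v.1, ?_⟩
      left_inv := fun v => Subtype.ext (by
        show act _ (act _ _) = _
        rw [← act_mul, mul_inv_cancel, act_one])
      right_inv := fun v => Subtype.ext (by
        show act (D.S.act' c)⁻¹ (act (D.S.act' c) v.1) = v.1
        rw [← act_mul, inv_mul_cancel, act_one]) }
  · obtain ⟨v, hv⟩ := v
    show SuzukiThree.tau (act (D.S.act' c)⁻¹ v) = act (D.S.act' c)⁻¹ v
    have h := congrArg (act (D.S.act' c)⁻¹) hv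
    rw [D.act'_conj hc D.yz, D.act_eq_o1, ← act_mul, show (D.S.act' c)⁻¹ * (D.S.act' c * o1 * (D.S.act' c)⁻¹) =
      o1 * (D.S.act' c)⁻¹ by group, act_mul, (o_act _).1] at h
    exact h
  · rw [D.act'_conj hc D.yz, D.act_eq_o1, act_mul, ← act_mul (D.S.act' c)⁻¹, inv_mul_cancel, act_one, act_mul,
      (o_act _).1, v.2]

/-- The rotation of the second line is conjugate to `y` in `C(z)`. -/
theorem exists_move (P : Parts D) : ∃ c, c * z = z * c ∧ c * y * c⁻¹ = P.a2 := by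
  obtain ⟨c0, hc0, hA⟩ := D.lift_omega o_mem.2.2.2.2.2
  obtain ⟨c, h1, -, -, h4⟩ := D.exists_lift ⊤ D.y3 D.yz (mem_top _) (A := omove) P.a2p P.a2z (mem_top _) hc0
    (mem_top _) hA (by
      rw [P.act2, D.act_eq_o1, mul_inv_eq_iff_eq_mul]
      exact ext_act fun v => by
        simp only [act_mul, (o_act _).1, (o_act _).2.1, (o_act _).2.2.2.2.2, move_spec])
  exact ⟨c, h1, h4⟩

end Basic

/-- The group generated by the three rotations. -/
def tri (P : Parts D) : Subgroup G := closure {y, P.a2, P.a3}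

namespace Tri

variable {D} (P : Parts D)
include P

theorem mem_gens : y ∈ tri D P ∧ P.a2 ∈ tri D P ∧ P.a3 ∈ tri D P :=
  ⟨subset_closure (by simp), subset_closure (by simp), subset_closure (by simp)⟩

theorem comm : ∀ u ∈ tri D P, ∀ v ∈ tri D P, u * v = v * u := by
  have hg : ∀ u ∈ ({y, P.a2, P.a3} : Set G), ∀ v ∈ ({y, P.a2, P.a3} : Set G), u * v = v * u := by
    intro u hu v hv
    simp only [Set.mem_insert_iff, Set.mem_singleton_iff] at hu hv
    rcases hu with e | e | e <;> rcases hv with e' | e' | e' <;> rw [e, e']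
    exacts [P.a2y.symm, P.a3y.symm, P.a2y, P.a23, P.a3y, P.a23.symm]
  intro u hu v hv
  have h1 : tri D P ≤ centralizer ({y, P.a2, P.a3} : Set G) :=
    (closure_le _).2 fun x hx => mem_centralizer_iff.2 fun w hw => hg w hw x hx
  have h2 : tri D P ≤ centralizer (tri D P : Set G) :=
    (closure_le _).2 fun x hx => mem_centralizer_iff.2 fun w hw => (mem_centralizer_iff.1 (h1 hw) x hx).symm
  exact (mem_centralizer_iff.1 (h2 hu) v hv).symm

theorem le_cc : tri D P ≤ cc z y := by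
  refine (closure_le _).2 ?_
  rintro x (e | e | e) <;> rw [e] <;> refine mem_cc.2 ⟨?_, ?_⟩
  exacts [D.yz, rfl, P.a2z, P.a2y, P.a3z, P.a3y]

theorem normal_form {x : G} (hx : x ∈ tri D P) :
    ∃ i j k : Fin 3, x = y ^ (i : ℕ) * P.a2 ^ (j : ℕ) * P.a3 ^ (k : ℕ) := by
  have hp : ∀ {b : G}, b ^ 3 = 1 → ∀ n : ℕ, b ^ n = b ^ ((Fin.ofNat 3 n : Fin 3) : ℕ) := fun {b} hb n => by
    rw [Fin.val_ofNat]; exact pow_eq_pow_mod n hb
  induction hx using Subgroup.closure_induction with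
  | mem u hu =>
    rcases hu with e | e | e <;> rw [e]
    · exact ⟨1, 0, 0, by simp⟩
    · exact ⟨0, 1, 0, by simp⟩
    · exact ⟨0, 0, 1, by simp⟩
  | one => exact ⟨0, 0, 0, by simp⟩
  | mul u v hu hv eu ev =>
    obtain ⟨i, j, k, rfl⟩ := eu
    obtain ⟨i', j', k', rfl⟩ := ev
    refine ⟨Fin.ofNat 3 (i + i'), Fin.ofNat 3 (j + j'), Fin.ofNat 3 (k + k'), ?_⟩
    rw [← hp D.y3, ← hp P.a2p, ← hp P.a3p, pow_add, pow_add, pow_add]
    have c1 : Commute (P.a3 ^ (k : ℕ)) (y ^ (i' : ℕ)) := (show Commute P.a3 y from P.a3y).pow_pow _ _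
    have c2 : Commute (P.a2 ^ (j : ℕ)) (y ^ (i' : ℕ)) := (show Commute P.a2 y from P.a2y).pow_pow _ _
    have c3 : Commute (P.a3 ^ (k : ℕ)) (P.a2 ^ (j' : ℕ)) := (show Commute P.a3 P.a2 from P.a23.symm).pow_pow _ _
    calc y ^ (i : ℕ) * P.a2 ^ (j : ℕ) * P.a3 ^ (k : ℕ) * (y ^ (i' : ℕ) * P.a2 ^ (j' : ℕ) * P.a3 ^ (k' : ℕ))
        = y ^ (i : ℕ) * P.a2 ^ (j : ℕ) * (P.a3 ^ (k : ℕ) * y ^ (i' : ℕ)) * (P.a2 ^ (j' : ℕ) * P.a3 ^ (k' : ℕ)) := by
          group
      _ = y ^ (i : ℕ) * (P.a2 ^ (j : ℕ) * y ^ (i' : ℕ)) * (P.a3 ^ (k : ℕ) * P.a2 ^ (j' : ℕ)) * P.a3 ^ (k' : ℕ) := by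
          rw [c1.eq]; group
      _ = _ := by rw [c2.eq, c3.eq]; group
  | inv u hu eu =>
    obtain ⟨i, j, k, rfl⟩ := eu
    refine ⟨Fin.ofNat 3 (2 * i), Fin.ofNat 3 (2 * j), Fin.ofNat 3 (2 * k), ?_⟩
    rw [← hp D.y3, ← hp P.a2p, ← hp P.a3p, inv_eq_of_mul_eq_one_right]
    have c1 : Commute (y ^ (i : ℕ)) (P.a2 ^ (j : ℕ)) := (show Commute y P.a2 from P.a2y.symm).pow_pow _ _
    have c2 : Commute (y ^ (i : ℕ) * P.a2 ^ (j : ℕ)) (P.a3 ^ (k : ℕ)) :=
      ((show Commute y P.a3 from P.a3y.symm).pow_pow _ _).mul_left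
        ((show Commute P.a2 P.a3 from P.a23).pow_pow _ _)
    have h3 : ∀ {b : G}, b ^ 3 = 1 → ∀ n : ℕ, b ^ (3 * n) = 1 := fun hb n => by rw [pow_mul, hb, one_pow]
    rw [mul_comm 2 (i : ℕ), mul_comm 2 (j : ℕ), mul_comm 2 (k : ℕ), pow_mul, pow_mul, pow_mul, ← c1.mul_pow,
      ← c2.mul_pow, ← pow_succ', show 2 + 1 = 3 from rfl, c2.mul_pow, c1.mul_pow, ← pow_mul, ← pow_mul,
      ← pow_mul, mul_comm (i : ℕ), mul_comm (j : ℕ), mul_comm (k : ℕ), h3 D.y3, h3 P.a2p, h3 P.a3p, one_mul,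
      one_mul]

theorem cube {x : G} (hx : x ∈ tri D P) : x ^ 3 = 1 := by
  obtain ⟨i, j, k, rfl⟩ := normal_form P hx
  have hm := mem_gens P
  have c1 : Commute (y ^ (i : ℕ)) (P.a2 ^ (j : ℕ)) := comm P _ (pow_mem hm.1 _) _ (pow_mem hm.2.1 _)
  have c2 : Commute (y ^ (i : ℕ) * P.a2 ^ (j : ℕ)) (P.a3 ^ (k : ℕ)) :=
    comm P _ (mul_mem (pow_mem hm.1 _) (pow_mem hm.2.1 _)) _ (pow_mem hm.2.2 _)
  rw [c2.mul_pow, c1.mul_pow, ← pow_mul, ← pow_mul, ← pow_mul, mul_comm (i : ℕ), mul_comm (j : ℕ),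
    mul_comm (k : ℕ), pow_mul, pow_mul, pow_mul, D.y3, P.a2p, P.a3p, one_pow, one_pow, one_pow, one_mul, one_mul]

/-- A conjugate of `y` under `C(z)` in the group is a power of a generator. -/
theorem conj_cases {c : G} (hc : c * z = z * c) (hx : c * y * c⁻¹ ∈ tri D P) :
    c * y * c⁻¹ ∈ zpowers y ∨ c * y * c⁻¹ ∈ zpowers P.a2 ∨ c * y * c⁻¹ ∈ zpowers P.a3 := by
  classical
  have h := fix_count D hc
  obtain ⟨i, j, k, e⟩ := normal_form P hx
  have h1 : Commute (y ^ (i : ℕ)) z := (show Commute y z from D.yz).pow_left _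
  have h2 : Commute (P.a2 ^ (j : ℕ)) z := (show Commute P.a2 z from P.a2z).pow_left _
  have h3 : Commute (P.a3 ^ (k : ℕ)) z := (show Commute P.a3 z from P.a3z).pow_left _
  have hv : ∀ v, act (D.S.act' (c * y * c⁻¹)) v = SuzukiThree.tau^[i] (SuzukiThree.tau2^[j] (SuzukiThree.tau3^[k] v)) := fun v => by
    rw [e, D.S.act'_mul (h1.mul_left h2).eq h3.eq, D.S.act'_mul h1.eq h2.eq, D.act'_pow D.yz,
      D.act'_pow P.a2z, D.act'_pow P.a3z, D.act_eq_o1, P.act2, P.act3, act_mul, act_mul,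
      SuzukiThree.act_pow, SuzukiThree.act_pow, SuzukiThree.act_pow,
      iterate_congr (fun w => (o_act w).1), iterate_congr (fun w => (o_act w).2.1),
      iterate_congr (fun w => (o_act w).2.2.1)]
  have h16 : Fintype.card {v : V // SuzukiThree.tau^[i] (SuzukiThree.tau2^[j] (SuzukiThree.tau3^[k] v)) = v} = 16 := by
    rw [← h, ← Nat.card_eq_fintype_card]
    exact Nat.card_congr (Equiv.subtypeEquivRight fun v => by rw [hv])
  rw [e]
  rcases sixteen_fixed i j k h16 with ⟨rfl, rfl⟩ | ⟨rfl, rfl⟩ | ⟨rfl, rfl⟩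
  · exact Or.inl (by simpa using pow_mem (mem_zpowers y) _)
  · exact Or.inr (Or.inl (by simpa using pow_mem (mem_zpowers P.a2) _))
  · exact Or.inr (Or.inr (by simpa using pow_mem (mem_zpowers P.a3) _))

theorem a2_ne : P.a2 ≠ 1 ∧ P.a3 ≠ 1 := by
  constructor <;> intro e
  · have h := P.act2
    rw [e, D.S.act'_q Q.one_mem] at h
    have h' := (o_act u1).2.1
    rw [← h, act_one] at h'
    revert h'; decide
  · have h := P.act3
    rw [e, D.S.act'_q Q.one_mem] at h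
    have h' := (o_act u3).2.2.1
    rw [← h, act_one] at h'
    revert h'; decide

end Tri

end Cfsg.Agent.SuzukiElementary
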